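import Groth.Agent.IsoNatLib.AutIso.Cls
import Groth.Agent.IsoNatLib.Twist.Abelian

/-!
# Vertical automorphisms of the pullbacks of one object
-/

set_option autoImplicit false
set_option linter.style.haveILetI false
set_option backward.isDefEq.respectTransparency false
set_option backward.isDefEq.respectTransparency.types false

universe u

open CategoryTheory CategoryTheory.Limits AlgebraicGeometry Opposite FibCat
open Groth.Agent.Stk19 Groth.Agent.Desc19 Groth.Agent.IsoNatLib.Twist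

namespace Groth.Agent.IsoNatLib.AutIso

variable {S : Scheme.{u}} {𝒳 : AlgSt.Cat S}

theorem isDominantSch_conj {X' X X₁ X₂ : Over S} (g : X' ⟶ X) (hdom : IsDominantSch g.left) (e₁ : X₁ = X')
    (e₂ : X₂ = X) : IsDominantSch (eqToHom e₁ ≫ g ≫ eqToHom e₂.symm).left := by
  subst e₁ e₂
  simpa using hdom

section Obj

variable (h : IsFibGrpd 𝒳.p) {T : Over S} (η : 𝒳.p.Fiber T) {X : Over S} (f : X ⟶ T)

/-- A pullback of `η`. -/
noncomputable def zObj : 𝒳.p.Fiber X := (exists_pb h f η).choose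

/-- Its arrow to `η`. -/
noncomputable def ζ : (zObj h η f).1 ⟶ η.1 := (exists_pb h f η).choose_spec.choose

theorem map_ζ : 𝒳.p.map (ζ h η f) = eqToHom (zObj h η f).2 ≫ f ≫ eqToHom η.2.symm := by
  haveI : 𝒳.p.IsHomLift f (ζ h η f) := (exists_pb h f η).choose_spec.choose_spec
  exact IsHomLift.fac' 𝒳.p f (ζ h η f)

theorem pb_η : pb h f (IsoNat.cls η) = IsoNat.cls (zObj h η f) :=
  pb_cls h _ (exists_pb h f η).choose_spec.choose_spec

/-- Vertical automorphisms of the pullback. -/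
def G : Type u := {a : (zObj h η f).1 ⟶ (zObj h η f).1 // 𝒳.p.map a = 𝟙 _}

noncomputable instance : Group (G h η f) where
  mul a b := ⟨a.1 ≫ b.1, by rw [𝒳.p.map_comp, a.2, b.2, Category.comp_id]⟩
  one := ⟨𝟙 _, 𝒳.p.map_id _⟩
  inv a := ⟨@inv _ _ _ _ a.1 (isIso_of_map h a.2), by
    haveI := isIso_of_map h a.2
    rw [Functor.map_inv]
    simp [a.2]⟩
  mul_assoc a b c := Subtype.ext (Category.assoc _ _ _)
  one_mul a := Subtype.ext (Category.id_comp _)
  mul_one a := Subtype.ext (Category.comp_id _)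
  inv_mul_cancel a := Subtype.ext (by
    haveI := isIso_of_map h a.2
    exact IsIso.inv_hom_id a.1)

theorem G.mul_val (a b : G h η f) : (a * b).1 = a.1 ≫ b.1 := rfl

theorem G.one_val : (1 : G h η f).1 = 𝟙 _ := rfl

theorem G.comm (hab : IsoNat.IsAutAbelian η) (a b : G h η f) : a * b = b * a :=
  Subtype.ext (comm_of_abelian h hab (ζ h η f) a.2 b.2)

end Obj

section Res

variable (h : IsFibGrpd 𝒳.p) {T : Over S} (η : 𝒳.p.Fiber T) {X X' X'' : Over S} {f : X ⟶ T} {f' : X' ⟶ T}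
  {f'' : X'' ⟶ T}

theorem exists_kk (g : X' ⟶ X) (hg : g ≫ f = f') :
    ∃! k : (zObj h η f').1 ⟶ (zObj h η f).1,
      𝒳.p.map k = eqToHom (zObj h η f').2 ≫ g ≫ eqToHom (zObj h η f).2.symm ∧ k ≫ ζ h η f = ζ h η f' :=
  fibGrpd_fac h _ _ _ (by rw [map_ζ, map_ζ, ← hg]; simp)

/-- The arrow between pullbacks. -/
noncomputable def kk (g : X' ⟶ X) (hg : g ≫ f = f') : (zObj h η f').1 ⟶ (zObj h η f).1 :=
  (exists_kk h η g hg).exists.choose

theorem map_kk (g : X' ⟶ X) (hg : g ≫ f = f') :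
    𝒳.p.map (kk h η g hg) = eqToHom (zObj h η f').2 ≫ g ≫ eqToHom (zObj h η f).2.symm :=
  (exists_kk h η g hg).exists.choose_spec.1

@[reassoc]
theorem kk_ζ (g : X' ⟶ X) (hg : g ≫ f = f') : kk h η g hg ≫ ζ h η f = ζ h η f' :=
  (exists_kk h η g hg).exists.choose_spec.2

theorem eq_kk {g : X' ⟶ X} {hg : g ≫ f = f'} {k : (zObj h η f').1 ⟶ (zObj h η f).1}
    (hk : 𝒳.p.map k = eqToHom (zObj h η f').2 ≫ g ≫ eqToHom (zObj h η f).2.symm) (hk' : k ≫ ζ h η f = ζ h η f') :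
    k = kk h η g hg :=
  (exists_kk h η g hg).unique ⟨hk, hk'⟩ ⟨map_kk h η g hg, kk_ζ h η g hg⟩

theorem kk_comp (g' : X'' ⟶ X') (hg' : g' ≫ f' = f'') (g : X' ⟶ X) (hg : g ≫ f = f') {k : X'' ⟶ X}
    (hk : g' ≫ g = k) (hk' : k ≫ f = f'') : kk h η g' hg' ≫ kk h η g hg = kk h η k hk' := by
  subst hk
  refine eq_kk h η ?_ ?_
  · rw [𝒳.p.map_comp, map_kk, map_kk]; simp
  · rw [Category.assoc, kk_ζ, kk_ζ]

/-- Restriction of automorphisms. -/
noncomputable def res (g : X' ⟶ X) (hg : g ≫ f = f') : G h η f →* G h η f' :=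
  MonoidHom.mk'
    (fun a => ⟨(exists_res h (kk h η g hg) a.2).choose, (exists_res h (kk h η g hg) a.2).choose_spec.map_eq⟩)
    fun a b => Subtype.ext ((exists_res h (kk h η g hg) (a * b).2).choose_spec.unique h
      ((exists_res h (kk h η g hg) a.2).choose_spec.comp (exists_res h (kk h η g hg) b.2).choose_spec))

theorem isRes_res (g : X' ⟶ X) (hg : g ≫ f = f') (a : G h η f) : IsRes (kk h η g hg) a.1 (res h η g hg a).1 :=
  (exists_res h (kk h η g hg) a.2).choose_spec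

theorem res_comm (g : X' ⟶ X) (hg : g ≫ f = f') (a : G h η f) :
    (res h η g hg a).1 ≫ kk h η g hg = kk h η g hg ≫ a.1 :=
  (isRes_res h η g hg a).comm

theorem res_res (g' : X'' ⟶ X') (hg' : g' ≫ f' = f'') (g : X' ⟶ X) (hg : g ≫ f = f') {k : X'' ⟶ X}
    (hk : g' ≫ g = k) (hk' : k ≫ f = f'') (a : G h η f) :
    res h η g' hg' (res h η g hg a) = res h η k hk' a := by
  refine Subtype.ext ((?_ : IsRes (kk h η k hk') a.1 _).unique h (isRes_res h η k hk' a))
  rw [← kk_comp h η g' hg' g hg hk hk']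
  exact (isRes_res h η g hg a).trans (isRes_res h η g' hg' _)

theorem kk_self {g : X ⟶ X} (hg : g ≫ f = f) (e : g = 𝟙 X) : kk h η g hg = 𝟙 _ := by
  subst e
  exact (eq_kk h η (by simp) (Category.id_comp _)).symm

theorem res_self {g : X ⟶ X} (hg : g ≫ f = f) (e : g = 𝟙 X) (a : G h η f) : res h η g hg a = a := by
  refine Subtype.ext ((isRes_res h η g hg a).unique h ⟨a.2, ?_⟩)
  rw [kk_self h η hg e, Category.comp_id, Category.id_comp]

theorem res_injective_of_dominant (hd : AlgSt.RepByAlgSpWith AlgSp.IsSeparatedMor (FibCat.diag (toSelf 𝒳)))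
    (g : X' ⟶ X) (hg : g ≫ f = f') (hdom : IsDominantSch g.left) {a b : G h η f}
    (e : res h η g hg a = res h η g hg b) : a = b := by
  have hr := isRes_res h η g hg a
  rw [e] at hr
  refine Subtype.ext (IsRes.eq_of_dominant h hd a.2 b.2 ?_ hr (isRes_res h η g hg b))
  rw [map_kk]
  exact isDominantSch_conj g hdom (zObj h η f').2 (zObj h η f).2

end Res

theorem res_ext_of_cover (hS : Stk.IsStack (AlgSp.J S) 𝒳) {T : Over S} (η : 𝒳.p.Fiber T) {X : Over S}
    {f : X ⟶ T} {κ : Type u} {W : κ → Over S} (c : ∀ k, W k ⟶ X) (hc : Sieve.ofArrows W c ∈ AlgSp.J S X)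
    {f' : ∀ k, W k ⟶ T} (hf : ∀ k, c k ≫ f = f' k) {a b : G hS.1 η f}
    (he : ∀ k, res hS.1 η (c k) (hf k) a = res hS.1 η (c k) (hf k) b) : a = b := by
  have key : ∀ {X₁ : Over S} (e : X₁ = X), Sieve.ofArrows W (fun k => c k ≫ eqToHom e.symm) ∈ AlgSp.J S X₁ := by
    intro X₁ e
    subst e
    simpa using hc
  refine Subtype.ext (hom_ext_of_cover hS (fun k => c k ≫ eqToHom (zObj hS.1 η f).2.symm)
    (key (zObj hS.1 η f).2) (fun k => kk hS.1 η (c k) (hf k)) (fun k => (zObj hS.1 η (f' k)).2)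
    (fun k => map_kk hS.1 η (c k) (hf k)) a.1 b.1 (a.2.trans b.2.symm) fun k => ?_)
  rw [← res_comm hS.1 η (c k) (hf k) a, ← res_comm hS.1 η (c k) (hf k) b, he]

theorem exists_glue_disjoint (hS : Stk.IsStack (AlgSp.J S) 𝒳) {T : Over S} (η : 𝒳.p.Fiber T) {O : Over S}
    {f : O ⟶ T} {κ : Type u} {D : κ → Over S} (inc : ∀ k, D k ⟶ O) [∀ k, IsOpenImmersion (inc k).left]
    (hc : Sieve.ofArrows D inc ∈ AlgSp.J S O)
    (hdis : ∀ (Z : Over S) (k k' : κ) (a : Z ⟶ D k) (b : Z ⟶ D k'),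
      a ≫ inc k = b ≫ inc k' → k = k' ∨ IsEmpty Z.left)
    {f' : ∀ k, D k ⟶ T} (hf : ∀ k, inc k ≫ f = f' k) (v : ∀ k, G hS.1 η (f' k)) :
    ∃ a : G hS.1 η f, ∀ k, res hS.1 η (inc k) (hf k) a = v k := by
  let z := fun k => (zObj hS.1 η (f' k)).1
  let ν := fun k => kk hS.1 η (inc k) (hf k)
  have mν : ∀ k, 𝒳.p.map (ν k) = _ := fun k => map_kk hS.1 η (inc k) (hf k)
  obtain ⟨χ, hχm, hχ⟩ := glue_disjoint hS (x := (zObj hS.1 η f).1) (y := (zObj hS.1 η f).1) rfl z ν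
    (fun k => (v k).1 ≫ ν k) (fun k => by
      show 𝒳.p.map ((v k).1 ≫ ν k) = _
      rw [𝒳.p.map_comp, (v k).2]
      simp)
    (fun k => by
      refine (Over.forget S).mono_of_mono_map ?_
      show Mono (𝒳.p.map (ν k)).left
      rw [mν, Over.comp_left, Over.comp_left]
      infer_instance)
    (by
      have key : ∀ {X : Over S} (e : X = O) (Y : κ → Over S) (eY : ∀ k, Y k = D k),
          Sieve.ofArrows Y (fun k => eqToHom (eY k) ≫ inc k ≫ eqToHom e.symm) ∈ AlgSp.J S X := by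
        intro X e Y eY
        obtain rfl : Y = D := funext eY
        subst e
        simpa using hc
      rw [show (fun k => 𝒳.p.map (ν k)) = _ from funext mν]
      exact key (zObj hS.1 η f).2 _ fun k => (zObj hS.1 η (f' k)).2)
    (fun Z k k' a b hab => by
      rw [mν, mν] at hab
      exact hdis Z k k' (a ≫ eqToHom (zObj hS.1 η (f' k)).2) (b ≫ eqToHom (zObj hS.1 η (f' k')).2)
        (by rw [← cancel_mono (eqToHom (zObj hS.1 η f).2.symm)]; simpa using hab))
  refine ⟨⟨χ, by simpa using hχm⟩, fun k => Subtype.ext ?_⟩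
  exact (isRes_res hS.1 η (inc k) (hf k) _).unique hS.1 ⟨(v k).2, (hχ k).symm⟩

end Groth.Agent.IsoNatLib.AutIso
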