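import Groth.Agent.IsoNatLib.Tangent.CrossMap

/-!
# The crossing of two lines over the integers
-/

set_option autoImplicit false
set_option linter.style.haveILetI false
set_option backward.isDefEq.respectTransparency false
set_option backward.isDefEq.respectTransparency.types false

universe u

open CategoryTheory CategoryTheory.Limits AlgebraicGeometry Opposite
open Polynomial
open Groth.Agent.IsoNatLib.Twist Groth.Agent.IsoNatLib.Tangent

namespace Groth.Agent.IsoNatLib.AutIso

section Ring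

variable (R : CommRingCat.{u})

/-- The retraction onto a line, on rings. -/
noncomputable def prRing (s : Bool) : R[X] →+* ↥(axes R) :=
  eval₂RingHom (algebraMap R ↥(axes R)) (coord R s)

theorem prRing_C (s : Bool) : (prRing R s).comp Polynomial.C = algebraMap R ↥(axes R) :=
  RingHom.ext fun r => by simp [prRing]

theorem proj_prRing (s : Bool) : (Twist.proj R s).comp (prRing R s) = RingHom.id R[X] := by
  refine Polynomial.ringHom_ext (fun r => ?_) ?_
  · simpa [prRing] using RingHom.congr_fun (proj_algebraMap R s) r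
  · simp [prRing, proj_coord]

theorem proj_not_prRing (s : Bool) :
    (Twist.proj R (!s)).comp (prRing R s) = Polynomial.C.comp (evalRingHom 0) := by
  refine Polynomial.ringHom_ext (fun r => ?_) ?_
  · simpa [prRing] using RingHom.congr_fun (proj_algebraMap R (!s)) r
  · cases s <;> simp [prRing, Twist.proj, coord]

theorem coord_mul_retract (s : Bool) (a : ↥(axes R)) :
    coord R s * prRing R s (Twist.proj R s a) = coord R s * a := by
  have h1 : Twist.proj R s (prRing R s (Twist.proj R s a)) = Twist.proj R s a :=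
    RingHom.congr_fun (proj_prRing R s) _
  refine Subtype.ext ?_
  cases s <;> simp [Twist.proj, coord] at h1 ⊢ <;> exact Prod.ext (by simp [h1]) (by simp [h1])

theorem evalZero_C : (evalRingHom (0 : R)).comp Polynomial.C = RingHom.id R :=
  RingHom.ext fun r => by simp

end Ring

/-- The integers. -/
noncomputable abbrev R₀ : CommRingCat.{u} := CommRingCat.of (ULift.{u} ℤ)

/-- The base. -/
noncomputable abbrev j₀ : Spec R₀.{u} ⟶ Spec R₀.{u} := 𝟙 _

/-- The line. -/
noncomputable abbrev MS : Over (Spec R₀.{u}) :=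
  Over.mk (Spec.map (CommRingCat.ofHom (Polynomial.C : R₀.{u} →+* Polynomial R₀.{u})))

/-- The localization map. -/
noncomputable abbrev locX : CommRingCat.of (Polynomial R₀.{u}) ⟶
    CommRingCat.of (Localization.Away (X : Polynomial R₀.{u})) :=
  CommRingCat.ofHom (algebraMap _ _)

/-- The punctured line. -/
noncomputable abbrev VS : Over (Spec R₀.{u}) := Over.mk (Spec.map locX.{u} ≫ MS.hom)

/-- Its inclusion. -/
noncomputable abbrev tS : VS.{u} ⟶ MS.{u} := Over.homMk (Spec.map locX.{u})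

/-- The origin of the line. -/
noncomputable abbrev oS : Over.mk j₀.{u} ⟶ MS.{u} :=
  Over.homMk (Spec.map (CommRingCat.ofHom (evalRingHom (0 : R₀.{u})))) (by
    show Spec.map _ ≫ Spec.map _ = 𝟙 _
    rw [← Spec.map_comp, ← CommRingCat.ofHom_comp, evalZero_C, CommRingCat.ofHom_id]
    exact Spec.map_id _)

/-- A line in the crossing. -/
noncomputable abbrev mS (s : Bool) : MS.{u} ⟶ stdA j₀.{u} :=
  Over.homMk (Spec.map (CommRingCat.ofHom (Twist.proj R₀.{u} s))) (by
    show Spec.map _ ≫ Spec.map _ ≫ 𝟙 _ = Spec.map _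
    rw [Category.comp_id, ← Spec.map_comp, ← CommRingCat.ofHom_comp, proj_algebraMap])

/-- The retraction onto a line. -/
noncomputable abbrev prS (s : Bool) : stdA j₀.{u} ⟶ MS.{u} :=
  Over.homMk (Spec.map (CommRingCat.ofHom (prRing R₀.{u} s))) (by
    show Spec.map _ ≫ Spec.map _ = Spec.map _ ≫ 𝟙 _
    rw [Category.comp_id, ← Spec.map_comp, ← CommRingCat.ofHom_comp, prRing_C])

theorem mS_prS (s : Bool) : mS.{u} s ≫ prS s = 𝟙 _ := by
  refine Over.OverMorphism.ext ?_
  show Spec.map _ ≫ Spec.map _ = 𝟙 _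
  rw [← Spec.map_comp, ← CommRingCat.ofHom_comp, proj_prRing, CommRingCat.ofHom_id]
  exact Spec.map_id _

theorem mS_not_prS (s : Bool) : (mS.{u} (!s) ≫ prS s).left = MS.hom ≫ oS.left := by
  show Spec.map _ ≫ Spec.map _ = Spec.map _ ≫ Spec.map _
  rw [← Spec.map_comp, ← Spec.map_comp, ← CommRingCat.ofHom_comp, ← CommRingCat.ofHom_comp, proj_not_prRing]

theorem oS_mS (s : Bool) : oS.{u} ≫ mS s = stdSec j₀ := by
  refine Over.OverMorphism.ext ?_
  show Spec.map _ ≫ Spec.map _ = Spec.map _
  rw [← Spec.map_comp, ← CommRingCat.ofHom_comp]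
  congr 2
  exact RingHom.ext fun a => ev_proj R₀.{u} a s

theorem range_tS_mS (s : Bool) :
    Set.range (Spec.map locX.{u} ≫ (mS s).left) ⊆ Set.range (stdOpen R₀.{u} s).ι := by
  rintro _ ⟨p, rfl⟩
  rw [Scheme.Opens.range_ι]
  show coord R₀.{u} s ∉ (PrimeSpectrum.comap (Twist.proj R₀.{u} s) (PrimeSpectrum.comap locX.{u}.hom p)).asIdeal
  intro hmem
  have hu : IsUnit (algebraMap (Polynomial R₀.{u}) (Localization.Away (X : Polynomial R₀.{u})) X) :=
    IsLocalization.map_units _ (⟨X, Submonoid.mem_powers _⟩ : Submonoid.powers (X : Polynomial R₀.{u}))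
  refine p.2.ne_top (Ideal.eq_top_of_isUnit_mem _ ?_ hu)
  have h' : locX.{u}.hom (Twist.proj R₀.{u} s (coord R₀.{u} s)) ∈ p.asIdeal := hmem
  erw [proj_coord] at h'
  exact h'

theorem range_stdOpen_prS (s : Bool) :
    Set.range ((stdOpen R₀.{u} s).ι ≫ (prS s).left) ⊆ Set.range (Spec.map locX.{u}) := by
  rintro _ ⟨p, rfl⟩
  refine (PrimeSpectrum.localization_away_comap_range (Localization.Away (X : Polynomial R₀.{u}))
    (X : Polynomial R₀.{u})).ge ?_
  have hp : coord R₀.{u} s ∉ p.1.asIdeal := p.2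
  show (X : Polynomial R₀.{u}) ∉ (PrimeSpectrum.comap (prRing R₀.{u} s) p.1).asIdeal
  simpa [prRing] using hp

theorem stdOpen_retract (s : Bool) :
    (stdOpen R₀.{u} s).ι ≫ (prS s ≫ mS s).left = (stdOpen R₀.{u} s).ι := by
  let A := CommRingCat.of ↥(axes R₀.{u})
  let f : A ⟶ CommRingCat.of (Localization.Away (coord R₀.{u} s)) := CommRingCat.ofHom (algebraMap _ _)
  have hr : Set.range (stdOpen R₀.{u} s).ι ⊆ Set.range (Spec.map f) := by
    rw [Scheme.Opens.range_ι]
    exact (PrimeSpectrum.localization_away_comap_range (Localization.Away (coord R₀.{u} s)) (coord R₀.{u} s)).ge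
  haveI : IsOpenImmersion (Spec.map f) := IsOpenImmersion.of_isLocalization (coord R₀.{u} s)
  rw [← IsOpenImmersion.lift_fac (Spec.map f) _ hr, Category.assoc]
  congr 1
  show Spec.map f ≫ Spec.map _ ≫ Spec.map _ = Spec.map f
  rw [← Spec.map_comp, ← Spec.map_comp]
  congr 1
  ext a
  show algebraMap _ (Localization.Away (coord R₀.{u} s)) (prRing R₀.{u} s (Twist.proj R₀.{u} s a)) =
    algebraMap _ (Localization.Away (coord R₀.{u} s)) a
  refine ((IsLocalization.map_units (Localization.Away (coord R₀.{u} s))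
    (⟨coord R₀.{u} s, Submonoid.mem_powers _⟩ : Submonoid.powers (coord R₀.{u} s))).mul_right_inj).1 ?_
  rw [← map_mul, ← map_mul, coord_mul_retract]

instance : IsOpenImmersion (tS.{u}).left :=
  IsOpenImmersion.of_isLocalization (X : Polynomial R₀.{u})

/-- The punctured line as a part of the crossing. -/
noncomputable abbrev dS (s : Bool) : VS.{u} ⟶ stdD j₀.{u} s :=
  Over.homMk (IsOpenImmersion.lift (stdOpen R₀.{u} s).ι _ (range_tS_mS s)) (by
    show _ ≫ (stdOpen R₀.{u} s).ι ≫ (stdA j₀).hom = _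
    rw [IsOpenImmersion.lift_fac_assoc, Category.assoc]
    exact congrArg (Spec.map locX ≫ ·) (Over.w (mS s)))

theorem dS_ι (s : Bool) : dS.{u} s ≫ stdInc j₀ s ≫ stdI j₀ = tS ≫ mS s := by
  refine Over.OverMorphism.ext ?_
  show IsOpenImmersion.lift _ _ _ ≫ Scheme.homOfLE _ (stdOpen_le (R := R₀.{u}) s) ≫ (stdUnion R₀.{u}).ι = _
  rw [Scheme.homOfLE_ι, IsOpenImmersion.lift_fac]
  rfl

instance isIso_dS (s : Bool) : IsIso (dS.{u} s).left := by
  haveI : IsOpenImmersion (Spec.map locX.{u}) := IsOpenImmersion.of_isLocalization (X : Polynomial R₀.{u})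
  refine ⟨IsOpenImmersion.lift (Spec.map locX.{u}) _ (range_stdOpen_prS s), ?_, ?_⟩
  · rw [← cancel_mono (Spec.map locX.{u}), Category.assoc, IsOpenImmersion.lift_fac]
    show IsOpenImmersion.lift _ _ _ ≫ _ ≫ _ = _
    rw [IsOpenImmersion.lift_fac_assoc, Category.assoc, Category.id_comp]
    erw [← Over.comp_left, mS_prS]
    exact Category.comp_id _
  · rw [← cancel_mono (stdOpen R₀.{u} s).ι, Category.assoc]
    show _ ≫ IsOpenImmersion.lift _ _ _ ≫ _ = _
    rw [IsOpenImmersion.lift_fac, IsOpenImmersion.lift_fac_assoc, Category.id_comp, Category.assoc, ← Over.comp_left]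
    exact stdOpen_retract s

/-- The punctured line in the punctured crossing. -/
noncomputable abbrev incS (s : Bool) : VS.{u} ⟶ stdO j₀.{u} := dS s ≫ stdInc j₀ s

instance (s : Bool) : IsOpenImmersion (incS.{u} s).left := by
  haveI := (crossing_std j₀.{u}).open_inc s
  rw [Over.comp_left]
  infer_instance

theorem incS_range (q : ↥(stdO j₀.{u}).left) : ∃ s, q ∈ Set.range (incS s).left := by
  have key : ∀ s, q.1 ∈ stdOpen R₀.{u} s → ∃ s, q ∈ Set.range (incS.{u} s).left := fun s hs => by
    refine ⟨s, (asIso (dS.{u} s).left).inv ⟨_, hs⟩, (stdUnion R₀.{u}).ι.isOpenEmbedding.injective ?_⟩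
    show ((asIso (dS.{u} s).left).inv ≫ (dS.{u} s).left ≫ (stdInc j₀ s).left ≫ (stdUnion R₀.{u}).ι) ⟨_, hs⟩ = _
    rw [asIso_inv, IsIso.inv_hom_id_assoc]
    show ((Spec _).homOfLE (stdOpen_le (R := R₀.{u}) s) ≫ _) _ = _
    rw [Scheme.homOfLE_ι]
    rfl
  exact q.2.elim (key false) (key true)

theorem incS_disjoint (s s' : Bool) (hs : s ≠ s') (a b : ↥VS.{u}.left) :
    (incS s).left a ≠ (incS s').left b := by
  intro e
  have ha : ((incS.{u} s).left a).1 = ((dS.{u} s).left a).1 := by
    show ((Spec _).homOfLE (stdOpen_le (R := R₀.{u}) s) ≫ (stdUnion R₀.{u}).ι) _ = _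
    rw [Scheme.homOfLE_ι]
    rfl
  have hb : ((incS.{u} s').left b).1 = ((dS.{u} s').left b).1 := by
    show ((Spec _).homOfLE (stdOpen_le (R := R₀.{u}) s') ≫ (stdUnion R₀.{u}).ι) _ = _
    rw [Scheme.homOfLE_ι]
    rfl
  have h3 : ((dS.{u} s).left a).1 ∈ PrimeSpectrum.basicOpen (coord R₀.{u} false * coord R₀.{u} true) := by
    rw [PrimeSpectrum.basicOpen_mul]
    have h4 : ((dS.{u} s).left a).1 ∈ stdOpen R₀.{u} s' := by
      rw [← ha, e, hb]; exact ((dS.{u} s').left b).2
    cases s <;> cases s'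
    · exact absurd rfl hs
    · exact ⟨((dS.{u} false).left a).2, h4⟩
    · exact ⟨h4, ((dS.{u} true).left a).2⟩
    · exact absurd rfl hs
  rw [coord_mul, PrimeSpectrum.basicOpen_zero] at h3
  exact h3

end Groth.Agent.IsoNatLib.AutIso
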