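import Groth.Agent.IsoNatLib.Twist.ExtTriv
import Groth.Agent.IsoNatLib.Twist.Res

/-!
# Pulling back isomorphism classes
-/

set_option autoImplicit false
set_option linter.style.haveILetI false
set_option backward.isDefEq.respectTransparency false
set_option backward.isDefEq.respectTransparency.types false

universe u

open CategoryTheory CategoryTheory.Limits AlgebraicGeometry Opposite FibCat
open Groth.Agent.Stk19 Groth.Agent.Desc19 Groth.Agent.IsoNatLib.Twist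

namespace Groth.Agent.IsoNatLib.AutIso

variable {S : Scheme.{u}} {𝒳 𝒴 : AlgSt.Cat S} (h : IsFibGrpd 𝒳.p)

theorem cls_eq_of_map {T : Over S} {a b : 𝒳.p.Fiber T} (hh : IsFibGrpd 𝒳.p) (χ : a.1 ⟶ b.1)
    (hχ : 𝒳.p.map χ = eqToHom (a.2.trans b.2.symm)) : IsoNat.cls a = IsoNat.cls b :=
  Quotient.sound (nonempty_iso_of_vert hh χ hχ)

include h in
theorem cls_eq_of_pullbacks {T' T : Over S} {g : T' ⟶ T} {a b : 𝒳.p.Fiber T'} {x y : 𝒳.p.Fiber T} (α : a.1 ⟶ x.1)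
    (β : b.1 ⟶ y.1) (hα : 𝒳.p.IsHomLift g α) (hβ : 𝒳.p.IsHomLift g β) (hxy : IsoNat.cls x = IsoNat.cls y) :
    IsoNat.cls a = IsoNat.cls b := by
  obtain ⟨α', hα'⟩ := exists_hom_of_cls (p' := a) α hα rfl hxy
  exact IsoNatLib.cls_eq_of_over h g α' β hα' hβ

include h in
theorem exists_pb {T' T : Over S} (g : T' ⟶ T) (x : 𝒳.p.Fiber T) :
    ∃ x' : 𝒳.p.Fiber T', ∃ a : x'.1 ⟶ x.1, 𝒳.p.IsHomLift g a := by
  obtain ⟨z, a, e, ha⟩ := fibGrpd_lift h x.1 (g ≫ eqToHom x.2.symm)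
  exact ⟨⟨z, e⟩, a, IsHomLift.of_fac' 𝒳.p _ _ e x.2 (by rw [ha])⟩

/-- The class of a pullback. -/
noncomputable def pb {T' T : Over S} (g : T' ⟶ T) : IsoNat.IsoCl 𝒳 T → IsoNat.IsoCl 𝒳 T' :=
  Quotient.lift (fun x => IsoNat.cls (exists_pb h g x).choose) fun x y hxy =>
    cls_eq_of_pullbacks h _ _ (exists_pb h g x).choose_spec.choose_spec (exists_pb h g y).choose_spec.choose_spec
      (Quotient.sound hxy)

theorem pb_cls {T' T : Over S} {g : T' ⟶ T} {x : 𝒳.p.Fiber T} {x' : 𝒳.p.Fiber T'} (a : x'.1 ⟶ x.1)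
    (ha : 𝒳.p.IsHomLift g a) : pb h g (IsoNat.cls x) = IsoNat.cls x' :=
  cls_eq_of_pullbacks h _ a (exists_pb h g x).choose_spec.choose_spec ha rfl

theorem pb_comp {T'' T' T : Over S} (g' : T'' ⟶ T') (g : T' ⟶ T) (c : IsoNat.IsoCl 𝒳 T) :
    pb h g' (pb h g c) = pb h (g' ≫ g) c := by
  induction c using Quotient.inductionOn with
  | h x =>
    obtain ⟨x', a, ha⟩ := exists_pb h g x
    obtain ⟨x'', b, hb⟩ := exists_pb h g' x'
    show pb h g' (pb h g (IsoNat.cls x)) = pb h (g' ≫ g) (IsoNat.cls x)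
    haveI := ha
    haveI := hb
    rw [pb_cls h a ha, pb_cls h b hb, pb_cls h (b ≫ a) inferInstance]

theorem pb_natural (φ : IsoNat.FIso 𝒳 𝒴) (h' : IsFibGrpd 𝒴.p) {T' T : Over S} (g : T' ⟶ T)
    (c : IsoNat.IsoCl 𝒳 T) : φ.toEquiv T' (pb h g c) = pb h' g (φ.toEquiv T c) := by
  induction c using Quotient.inductionOn with
  | h x =>
    obtain ⟨x', a, ha⟩ := exists_pb h g x
    obtain ⟨y', y, b, hb, h1, h2⟩ := φ.natural g x' x a ha
    show φ.toEquiv T' (pb h g (IsoNat.cls x)) = pb h' g (φ.toEquiv T (IsoNat.cls x))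
    rw [pb_cls h a ha, h1, h2, pb_cls h' b hb]

end Groth.Agent.IsoNatLib.AutIso
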