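import Groth.Agent.IsoNatLib.AutIso.Main

/-!
# Abelian automorphism groups are determined by the presheaf of isomorphism classes
-/

set_option autoImplicit false
set_option linter.style.haveILetI false
set_option backward.isDefEq.respectTransparency false
set_option backward.isDefEq.respectTransparency.types false

universe u

open CategoryTheory CategoryTheory.Limits AlgebraicGeometry Opposite FibCat
open Groth.Agent.Stk19 Groth.Agent.Desc19 Groth.Agent.IsoNatLib.Twist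

namespace Groth.Agent.IsoNatLib.AutIso

variable {S : Scheme.{u}} {𝒳 𝒴 : AlgSt.Cat S} {T : Over S}

theorem nonempty_aut_mulEquiv (h : IsFibGrpd 𝒳.p) (η : 𝒳.p.Fiber T) (hab : IsoNat.IsAutAbelian η) :
    Nonempty (Aut η ≃* G₁ h η) := by
  have mζ : 𝒳.p.map (ζ h η (𝟙 T)) = eqToHom ((zObj h η (𝟙 T)).2.trans η.2.symm) := by
    rw [map_ζ]; simp
  haveI : IsIso (ζ h η (𝟙 T)) := by
    have : IsIso (𝒳.p.map (ζ h η (𝟙 T))) := by rw [mζ]; infer_instance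
    exact fibGrpd_isIso h _
  have hm : ∀ a : Aut η, 𝒳.p.map (ζ h η (𝟙 T) ≫ a.hom.1 ≫ inv (ζ h η (𝟙 T))) = 𝟙 _ := fun a => by
    haveI : 𝒳.p.IsHomLift (𝟙 T) a.hom.1 := a.hom.2
    rw [𝒳.p.map_comp, 𝒳.p.map_comp, Functor.map_inv, IsHomLift.fac' 𝒳.p (𝟙 T) a.hom.1]
    simp [mζ]
  let F : Aut η → G₁ h η := fun a => ⟨_, hm a⟩
  refine ⟨MulEquiv.ofBijective (MonoidHom.mk' F fun a b => ?_) ⟨fun a b e => ?_, fun g => ?_⟩⟩
  · rw [G.comm h η _ hab]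
    refine Subtype.ext ?_
    show ζ h η (𝟙 T) ≫ (b.hom.1 ≫ a.hom.1) ≫ inv (ζ h η (𝟙 T)) =
      (ζ h η (𝟙 T) ≫ b.hom.1 ≫ inv (ζ h η (𝟙 T))) ≫ ζ h η (𝟙 T) ≫ a.hom.1 ≫ inv (ζ h η (𝟙 T))
    simp
  · refine Aut.ext (Functor.Fiber.hom_ext ((cancel_epi (ζ h η (𝟙 T))).1
      ((cancel_mono (inv (ζ h η (𝟙 T)))).1 ?_)))
    simp only [Category.assoc]
    exact congrArg (fun t : G₁ h η => t.1) e
  · haveI := isIso_of_map h g.2
    have hg : 𝒳.p.IsHomLift (𝟙 T) (asIso (inv (ζ h η (𝟙 T)) ≫ g.1 ≫ ζ h η (𝟙 T))).hom :=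
      IsHomLift.of_fac' 𝒳.p _ _ η.2 η.2 (by
        rw [asIso_hom, 𝒳.p.map_comp, 𝒳.p.map_comp, Functor.map_inv, g.2]
        simp [mζ])
    haveI := hg
    haveI := vert_inv 𝒳.p (asIso (inv (ζ h η (𝟙 T)) ≫ g.1 ≫ ζ h η (𝟙 T))) hg
    refine ⟨⟨Functor.Fiber.homMk 𝒳.p _ (asIso (inv (ζ h η (𝟙 T)) ≫ g.1 ≫ ζ h η (𝟙 T))).hom,
      Functor.Fiber.homMk 𝒳.p _ (asIso (inv (ζ h η (𝟙 T)) ≫ g.1 ≫ ζ h η (𝟙 T))).inv,
      Functor.Fiber.hom_ext (asIso _).hom_inv_id, Functor.Fiber.hom_ext (asIso _).inv_hom_id⟩, Subtype.ext ?_⟩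
    show ζ h η (𝟙 T) ≫ (inv (ζ h η (𝟙 T)) ≫ g.1 ≫ ζ h η (𝟙 T)) ≫ inv (ζ h η (𝟙 T)) = g.1
    simp

theorem inIm_transfer (hX : IsFibGrpd 𝒳.p) (hY : IsFibGrpd 𝒴.p) (φ : IsoNat.FIso 𝒳 𝒴) {η : 𝒳.p.Fiber T}
    {η' : 𝒴.p.Fiber T} (hη : φ.toEquiv T (IsoNat.cls η) = IsoNat.cls η') (C : Cross T)
    (c : IsoNat.IsoCl 𝒳 (QA C).P) : InIm hY η' C (φ.toEquiv _ c) ↔ InIm hX η C c := by
  simp only [InIm, ← hη, ← pb_natural hX φ hY, EmbeddingLike.apply_eq_iff_eq]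

theorem nonempty_aut_mulEquiv_of_fIso (hX : Stk.IsStack (AlgSp.J S) 𝒳) (hY : Stk.IsStack (AlgSp.J S) 𝒴)
    (hdX : AlgSt.RepByAlgSpWith AlgSp.IsSeparatedMor (FibCat.diag (toSelf 𝒳)))
    (hdY : AlgSt.RepByAlgSpWith AlgSp.IsSeparatedMor (FibCat.diag (toSelf 𝒴))) (φ : IsoNat.FIso 𝒳 𝒴)
    {η : 𝒳.p.Fiber T} {η' : 𝒴.p.Fiber T} (hη : φ.toEquiv T (IsoNat.cls η) = IsoNat.cls η')
    (hab : IsoNat.IsAutAbelian η) (hab' : IsoNat.IsAutAbelian η') : Nonempty (Aut η ≃* Aut η') := by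
  let C := cross T
  obtain ⟨D⟩ := exists_triple C
  have mk : ∀ γ : G₁ hX.1 η, ∃ c, TwCst hX.1 η C γ c := fun γ => by
    obtain ⟨v, hv⟩ := exists_cst hX C γ
    obtain ⟨c, hc⟩ := exists_isTw η hX (QA C) v
    exact ⟨c, v, hv, hc⟩
  choose cX hcX using mk
  have img : ∀ γ, ∃ γ', TwCst hY.1 η' C γ' (φ.toEquiv _ (cX γ)) := fun γ =>
    twCst_surjective hY C hab' ((inIm_transfer hX.1 hY.1 φ hη C _).2 (twCst_inIm hX C hab (hcX γ)))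
  choose e he using img
  have hmul : ∀ γ δ, e (γ * δ) = e γ * e δ := fun γ δ => by
    obtain ⟨X, h₁, h₂, h₃⟩ := exists_rel hX C hab D (hcX γ) (hcX δ) (hcX (γ * δ))
    exact eq_mul_of_rel hY C hab' hdY D (he γ) (he δ) (he (γ * δ)) ⟨φ.toEquiv _ X,
      by rw [← pb_natural hX.1 φ hY.1, h₁], by rw [← pb_natural hX.1 φ hY.1, h₂],
      by rw [← pb_natural hX.1 φ hY.1, h₃]⟩
  have hinj : Function.Injective e := fun γ δ h => by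
    have h1 : φ.toEquiv _ (cX γ) = φ.toEquiv _ (cX δ) := twCst_unique hY C hab' (he γ) (h ▸ he δ)
    exact twCst_injective hX C hab hdX (hcX γ) ((φ.toEquiv _).injective h1 ▸ hcX δ)
  have hsurj : Function.Surjective e := fun γ' => by
    obtain ⟨v, hv⟩ := exists_cst hY C γ'
    obtain ⟨c, hc⟩ := exists_isTw η' hY (QA C) v
    have hc' : TwCst hY.1 η' C γ' c := ⟨v, hv, hc⟩
    obtain ⟨γ, hγ⟩ := twCst_surjective hX C hab ((inIm_transfer hX.1 hY.1 φ hη C _).1 (by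
      rw [Equiv.apply_symm_apply]; exact twCst_inIm hY C hab' hc'))
    refine ⟨γ, twCst_injective hY C hab' hdY (he γ) ?_⟩
    rwa [twCst_unique hX C hab (hcX γ) hγ, Equiv.apply_symm_apply]
  obtain ⟨E₁⟩ := nonempty_aut_mulEquiv hX.1 η hab
  obtain ⟨E₂⟩ := nonempty_aut_mulEquiv hY.1 η' hab'
  exact ⟨E₁.trans ((MulEquiv.ofBijective (MonoidHom.mk' e hmul) ⟨hinj, hsurj⟩).trans E₂.symm)⟩

end Groth.Agent.IsoNatLib.AutIso
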