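import Groth.Agent.IsoNatLib.AutIso.Base
import Mathlib.CategoryTheory.Comma.Over.Pullback
import Mathlib.AlgebraicGeometry.PullbackCarrier

/-!
# The crossing of two lines over an arbitrary base
-/

set_option autoImplicit false
set_option linter.style.haveILetI false
set_option backward.isDefEq.respectTransparency false
set_option backward.isDefEq.respectTransparency.types false

universe u

open CategoryTheory CategoryTheory.Limits AlgebraicGeometry Opposite
open Polynomial
open Groth.Agent.IsoNatLib.Twist Groth.Agent.IsoNatLib.Tangent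

namespace Groth.Agent.IsoNatLib.AutIso

variable {S : Scheme.{u}}

/-- Two lines through a section, with retractions. -/
structure Cross (T : Over S) where
  /-- The crossing. -/
  A : Over S
  /-- The crossing without the origin. -/
  O : Over S
  /-- A line. -/
  M : Over S
  /-- A line without the origin. -/
  V : Over S
  /-- The inclusion. -/
  i : O ⟶ A
  /-- The parts of the punctured crossing. -/
  inc : Bool → (V ⟶ O)
  /-- The projection. -/
  l : A ⟶ T
  /-- The projection of a line. -/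
  p : M ⟶ T
  /-- The lines. -/
  m : Bool → (M ⟶ A)
  /-- The retractions. -/
  pr : Bool → (A ⟶ M)
  /-- The punctured line. -/
  t : V ⟶ M
  /-- The origin. -/
  o : T ⟶ M
  open_i : IsOpenImmersion i.left
  open_t : IsOpenImmersion t.left
  open_inc : ∀ s, IsOpenImmersion (inc s).left
  cover : Sieve.ofArrows (fun _ : ULift.{u} Bool => V) (fun k => inc k.down) ∈ AlgSp.J S O
  disjoint : ∀ (Z : Over S) (k k' : Bool) (a b : Z ⟶ V), a ≫ inc k = b ≫ inc k' → k = k' ∨ IsEmpty Z.left
  m_l : ∀ s, m s ≫ l = p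
  pr_p : ∀ s, pr s ≫ p = l
  o_p : o ≫ p = 𝟙 T
  m_pr : ∀ s, m s ≫ pr s = 𝟙 M
  m_not_pr : ∀ s, m (!s) ≫ pr s = p ≫ o
  o_m : o ≫ m false = o ≫ m true
  inc_i : ∀ s, inc s ≫ i = t ≫ m s
  dom : IsDominantSch t.left

section BC

variable (T : Over S)

/-- The map to the integers. -/
noncomputable abbrev toR₀ : T.left ⟶ Spec R₀.{u} := specULiftZIsTerminal.from T.left

/-- Base change to `T`. -/
noncomputable abbrev bc : Over (Spec R₀.{u}) ⥤ Over S := Over.pullback (toR₀ T) ⋙ Over.map T.hom

variable {T} {X Y : Over (Spec R₀.{u})}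

/-- The projection. -/
noncomputable def bcP (X : Over (Spec R₀.{u})) : (bc T).obj X ⟶ T :=
  Over.homMk (pullback.snd X.hom (toR₀ T)) rfl

theorem bcP_left : (bcP (T := T) X).left = pullback.snd X.hom (toR₀ T) := rfl

theorem bc_map_left (g : X ⟶ Y) : ((bc T).map g).left =
    pullback.lift (pullback.fst _ _ ≫ g.left) (pullback.snd _ _) (by simp [pullback.condition]) := rfl

theorem bc_map_P (g : X ⟶ Y) : (bc T).map g ≫ bcP Y = bcP X := by
  refine Over.OverMorphism.ext ?_
  rw [Over.comp_left, bc_map_left, bcP_left, pullback.lift_snd]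
  rfl

/-- The section of a base change. -/
noncomputable def bcSec (s : Over.mk j₀.{u} ⟶ X) : T ⟶ (bc T).obj X :=
  Over.homMk (pullback.lift (toR₀ T ≫ s.left) (𝟙 _) (by
    have h1 : s.left ≫ X.hom = 𝟙 _ := Over.w s
    rw [Category.assoc, Category.id_comp]
    erw [h1, Category.comp_id])) (by
    show pullback.lift _ _ _ ≫ pullback.snd _ _ ≫ T.hom = T.hom
    rw [pullback.lift_snd_assoc, Category.id_comp])

theorem bcSec_P (s : Over.mk j₀.{u} ⟶ X) : bcSec s ≫ bcP (T := T) X = 𝟙 T :=
  Over.OverMorphism.ext (pullback.lift_snd _ _ _)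

theorem bcSec_map (s : Over.mk j₀.{u} ⟶ X) (g : X ⟶ Y) : bcSec (T := T) s ≫ (bc T).map g = bcSec (s ≫ g) := by
  refine Over.OverMorphism.ext ?_
  rw [Over.comp_left, bc_map_left]
  refine pullback.hom_ext ?_ ?_ <;> simp [bcSec]

theorem bc_map_const (g : X ⟶ Y) (s : Over.mk j₀.{u} ⟶ Y) (hg : g.left = X.hom ≫ s.left) :
    (bc T).map g = bcP X ≫ bcSec s := by
  refine Over.OverMorphism.ext ?_
  rw [Over.comp_left, bc_map_left]
  refine pullback.hom_ext ?_ ?_
  · rw [pullback.lift_fst, Category.assoc]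
    show _ = pullback.snd _ _ ≫ pullback.lift _ _ _ ≫ pullback.fst _ _
    rw [pullback.lift_fst, ← pullback.condition_assoc, hg]
  · rw [pullback.lift_snd, Category.assoc]
    show _ = pullback.snd _ _ ≫ pullback.lift _ _ _ ≫ pullback.snd _ _
    rw [pullback.lift_snd, Category.comp_id]

theorem bc_isPullback (g : X ⟶ Y) :
    IsPullback ((bc T).map g).left (pullback.fst X.hom (toR₀ T)) (pullback.fst Y.hom (toR₀ T)) g.left := by
  refine IsPullback.of_right (h₁₂ := pullback.snd Y.hom (toR₀ T)) (v₁₃ := toR₀ T) (h₂₂ := Y.hom) ?_ ?_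
    (IsPullback.of_hasPullback Y.hom (toR₀ T)).flip
  · rw [bc_map_left, pullback.lift_snd, Over.w g]
    exact (IsPullback.of_hasPullback X.hom (toR₀ T)).flip
  · rw [bc_map_left, pullback.lift_fst]

theorem bc_open (g : X ⟶ Y) [IsOpenImmersion g.left] : IsOpenImmersion ((bc T).map g).left :=
  MorphismProperty.of_isPullback (P := @IsOpenImmersion) (bc_isPullback g).flip ‹_›

theorem bc_mem_range (g : X ⟶ Y) {q : ↥((bc T).obj Y).left}
    (hq : (pullback.fst Y.hom (toR₀ T)) q ∈ Set.range g.left) : q ∈ Set.range ((bc T).map g).left := by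
  obtain ⟨x, hx⟩ := hq
  obtain ⟨z, hz, -⟩ := Scheme.Pullback.exists_preimage_pullback (f := pullback.fst Y.hom (toR₀ T))
    (g := g.left) q x hx.symm
  refine ⟨(bc_isPullback g).isoPullback.inv z, ?_⟩
  rw [← Scheme.Hom.comp_apply, IsPullback.isoPullback_inv_fst]
  exact hz

end BC

/-- The polynomial ring is a pushout. -/
theorem isPushout_polynomial {R A : CommRingCat.{u}} (φ : R ⟶ A) :
    IsPushout φ (CommRingCat.ofHom (Polynomial.C : R →+* R[X]))
      (CommRingCat.ofHom (Polynomial.C : A →+* A[X])) (CommRingCat.ofHom (mapRingHom φ.hom)) := by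
  refine ⟨⟨by ext r; simp⟩, ⟨PushoutCocone.IsColimit.mk _
    (fun s => CommRingCat.ofHom (eval₂RingHom s.inl.hom (s.inr.hom (X : R[X])))) (fun s => ?_) (fun s => ?_)
    (fun s m h₁ h₂ => ?_)⟩⟩
  · ext r
    simp
  · refine CommRingCat.hom_ext (Polynomial.ringHom_ext (fun r => ?_) ?_)
    · have hs : s.inl.hom (φ.hom r) = s.inr.hom (Polynomial.C r) :=
        RingHom.congr_fun (congrArg CommRingCat.Hom.hom s.condition) r
      simpa using hs
    · simp
  · refine CommRingCat.hom_ext (Polynomial.ringHom_ext (fun r => ?_) ?_)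
    · have hs : m.hom (Polynomial.C r) = s.inl.hom r := RingHom.congr_fun (congrArg CommRingCat.Hom.hom h₁) r
      simpa using hs
    · have hs : m.hom ((Polynomial.X : R[X]).map φ.hom) = s.inr.hom Polynomial.X :=
        RingHom.congr_fun (congrArg CommRingCat.Hom.hom h₂) (Polynomial.X : R[X])
      simpa using hs

theorem dominant_bc (T : Over S) : IsDominantSch ((bc T).map tS.{u}).left := by
  intro E i _ l hl
  let B := ((bc T).obj MS.{u}).left
  let q : B ⟶ T.left := pullback.snd MS.{u}.hom (toR₀ T)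
  let 𝒰 := T.left.affineCover
  refine IsZariskiLocalAtTarget.of_openCover (P := MorphismProperty.isomorphisms Scheme.{u})
    (𝒰.pullback₁ q) fun k => ?_
  show IsIso (pullback.snd i (pullback.fst q (𝒰.f k)))
  let R' : CommRingCat.{u} := (𝒰.X k).presheaf.obj (op ⊤)
  haveI : IsAffine (𝒰.X k) := inferInstance
  let e := (𝒰.X k).isoSpec
  let φ : R₀.{u} ⟶ R' := CommRingCat.isInitial.to R'
  have sqM : IsPullback (Spec.map (CommRingCat.ofHom (mapRingHom φ.hom)))
      (Spec.map (CommRingCat.ofHom (Polynomial.C : R' →+* R'[X]))) MS.{u}.hom (Spec.map φ) :=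
    (isPullback_SpecMap_of_isPushout _ _ _ _ (isPushout_polynomial φ)).flip
  let g : Spec R' ⟶ T.left := e.inv ≫ 𝒰.f k
  have hg : g ≫ toR₀ T = Spec.map φ := specULiftZIsTerminal.hom_ext _ _
  let a : Spec (CommRingCat.of R'[X]) ⟶ B := pullback.lift (Spec.map (CommRingCat.ofHom (mapRingHom φ.hom)))
    (Spec.map (CommRingCat.ofHom (Polynomial.C : R' →+* R'[X])) ≫ g) (by rw [Category.assoc, hg]; exact sqM.w)
  have sqA : IsPullback a (Spec.map (CommRingCat.ofHom (Polynomial.C : R' →+* R'[X]))) q g := by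
    refine IsPullback.of_right (h₁₂ := pullback.fst MS.{u}.hom (toR₀ T)) (v₁₃ := MS.{u}.hom)
      (h₂₂ := toR₀ T) ?_ ?_ (IsPullback.of_hasPullback MS.{u}.hom (toR₀ T))
    · rw [pullback.lift_fst, hg]
      exact sqM
    · exact pullback.lift_snd _ _ _
  have sqA' : IsPullback a (Spec.map (CommRingCat.ofHom (Polynomial.C : R' →+* R'[X])) ≫ e.inv) q (𝒰.f k) :=
    sqA.of_iso (Iso.refl _) (Iso.refl _) e.symm (Iso.refl _) (by simp) (by simp) (by simp) (by simp [g])
  let b := sqA'.isoPullback
  -- the punctured line over the affine piece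
  let f' : CommRingCat.of R'[X] ⟶ CommRingCat.of (Localization.Away (X : R'[X])) :=
    CommRingCat.ofHom (algebraMap _ _)
  have hu : IsUnit ((f'.hom).comp (mapRingHom φ.hom) (X : Polynomial R₀.{u})) := by
    show IsUnit (f'.hom (Polynomial.map φ.hom (X : Polynomial R₀.{u})))
    rw [Polynomial.map_X]
    exact IsLocalization.map_units (Localization.Away (X : R'[X]))
      (⟨X, Submonoid.mem_powers _⟩ : Submonoid.powers (X : R'[X]))
  let ψ : CommRingCat.of (Localization.Away (X : Polynomial R₀.{u})) ⟶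
      CommRingCat.of (Localization.Away (X : R'[X])) :=
    CommRingCat.ofHom (IsLocalization.Away.lift (X : Polynomial R₀.{u}) hu)
  have hψ : Spec.map ψ ≫ Spec.map locX.{u} = Spec.map f' ≫ Spec.map (CommRingCat.ofHom (mapRingHom φ.hom)) := by
    rw [← Spec.map_comp, ← Spec.map_comp]
    congr 1
    ext1
    exact IsLocalization.Away.lift_comp _ hu
  let c : Spec (CommRingCat.of (Localization.Away (X : R'[X]))) ⟶ ((bc T).obj VS.{u}).left :=
    pullback.lift (Spec.map ψ) (Spec.map f' ≫ a ≫ q) (by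
      show Spec.map ψ ≫ Spec.map locX.{u} ≫ MS.{u}.hom = (_ ≫ _ ≫ pullback.snd _ _) ≫ _
      rw [Category.assoc, Category.assoc, ← pullback.condition, pullback.lift_fst_assoc, reassoc_of% hψ])
  have hc : c ≫ ((bc T).map tS.{u}).left = Spec.map f' ≫ a := by
    rw [bc_map_left]
    refine pullback.hom_ext ?_ ?_
    · rw [Category.assoc, pullback.lift_fst, Category.assoc, pullback.lift_fst, pullback.lift_fst_assoc]
      exact hψ
    · rw [Category.assoc, pullback.lift_snd, Category.assoc]
      exact pullback.lift_snd _ _ _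
  have hdom := isDominantSch_spec f'
    (IsLocalization.injective _ (Submonoid.powers_le.2 Polynomial.monic_X.mem_nonZeroDivisors))
  have hb : b.hom ≫ pullback.fst q (𝒰.f k) = a := sqA'.isoPullback_hom_fst
  have : IsIso (pullback.snd i a) := hdom (pullback.snd i a) (pullback.lift (c ≫ l) (Spec.map f') (by
    rw [Category.assoc, hl, hc])) (pullback.lift_snd _ _ _)
  exact ((MorphismProperty.isomorphisms Scheme.{u}).arrow_mk_iso_iff (Arrow.isoMk
    (asIso (pullback.map i a i (pullback.fst q (𝒰.f k)) (𝟙 _) b.hom (𝟙 _) (by simp) (by rw [Category.comp_id, hb])))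
    b (by simp [pullback.map]))).1 this

/-- The crossing over `T`. -/
noncomputable def cross (T : Over S) : Cross T where
  A := (bc T).obj (stdA j₀)
  O := (bc T).obj (stdO j₀)
  M := (bc T).obj MS
  V := (bc T).obj VS
  i := (bc T).map (stdI j₀)
  inc s := (bc T).map (incS s)
  l := bcP _
  p := bcP _
  m s := (bc T).map (mS s)
  pr s := (bc T).map (prS s)
  t := (bc T).map tS
  o := bcSec oS
  open_i := by
    haveI := (crossing_std j₀.{u}).open_i
    exact bc_open _
  open_t := bc_open _
  open_inc s := bc_open _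
  cover := by
    haveI : ∀ k : ULift.{u} Bool, IsOpenImmersion ((bc T).map (incS k.down)).left := fun k => bc_open _
    refine AlgSpLib.ofArrows_mem_J _ fun q => ?_
    obtain ⟨s, hs⟩ := incS_range ((pullback.fst (stdO j₀.{u}).hom (toR₀ T)) q)
    exact ⟨⟨s⟩, bc_mem_range _ hs⟩
  disjoint Z k k' a b hab := by
    by_cases hk : k = k'
    · exact Or.inl hk
    refine Or.inr ⟨fun z => incS_disjoint k k' hk ((pullback.fst VS.{u}.hom (toR₀ T)) (a.left z))
      ((pullback.fst VS.{u}.hom (toR₀ T)) (b.left z)) ?_⟩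
    have h1 := congrArg (fun w : Z ⟶ _ => (w.left ≫ pullback.fst (stdO j₀.{u}).hom (toR₀ T)) z) hab
    simp only [Over.comp_left, bc_map_left, Category.assoc, pullback.lift_fst, Scheme.Hom.comp_apply] at h1
    exact h1
  m_l s := bc_map_P _
  pr_p s := bc_map_P _
  o_p := bcSec_P _
  m_pr s := by rw [← (bc T).map_comp, mS_prS, (bc T).map_id]
  m_not_pr s := by rw [← (bc T).map_comp, bc_map_const _ oS (mS_not_prS s)]
  o_m := by rw [bcSec_map, bcSec_map, oS_mS, oS_mS]
  inc_i s := by rw [← (bc T).map_comp, ← (bc T).map_comp, Category.assoc, dS_ι]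
  dom := dominant_bc T

end Groth.Agent.IsoNatLib.AutIso
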