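import Groth.Agent.IsoNatLib.AutIso.Pair
import Groth.Agent.IsoNatLib.AutIso.Geom
import Groth.Agent.IsoNatLib.Chart.StarTwist

/-!
# An abelian automorphism group is read on classes over crossings
-/

set_option autoImplicit false
set_option linter.style.haveILetI false
set_option backward.isDefEq.respectTransparency false
set_option backward.isDefEq.respectTransparency.types false

universe u

open CategoryTheory CategoryTheory.Limits AlgebraicGeometry Opposite FibCat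
open Groth.Agent.Stk19 Groth.Agent.Desc19 Groth.Agent.IsoNatLib.Twist
open Groth.Agent.IsoNatLib.Chart (Star exists_star exists_star_twist)

namespace Groth.Agent.IsoNatLib.AutIso

variable {S : Scheme.{u}} {𝒳 𝒴 : AlgSt.Cat S} {T : Over S}

/-- The doubled crossing. -/
noncomputable def QA (C : Cross T) : Pair T := @mkPair _ T C.A C.O C.i C.open_i C.l

/-- The doubled line. -/
noncomputable def QM (C : Cross T) : Pair T := @mkPair _ T C.M C.V C.t C.open_t C.p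

theorem exists_qs (C : Cross T) (s : Bool) : ∃ q : (QM C).P ⟶ (QA C).P,
    (QM C).ι₁ ≫ q = C.m s ≫ (QA C).ι₁ ∧ (QM C).ι₂ ≫ q = C.m s ≫ (QA C).ι₂ :=
  (QM C).desc (C.m s ≫ (QA C).ι₁) (C.m s ≫ (QA C).ι₂) (by
    have h1 : C.i ≫ (QA C).ι₁ = C.i ≫ (QA C).ι₂ := (QA C).doubled.sq.w
    show C.t ≫ C.m s ≫ _ = C.t ≫ C.m s ≫ _
    rw [← reassoc_of% (C.inc_i s), ← reassoc_of% (C.inc_i s), h1])

/-- The line in the doubled crossing. -/
noncomputable def qs (C : Cross T) (s : Bool) : (QM C).P ⟶ (QA C).P := (exists_qs C s).choose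

/-- Three crossings glued along the punctured crossing, with the pairs among them. -/
structure Triple (C : Cross T) where
  /-- The scheme. -/
  P : Over S
  /-- The charts. -/
  ι : ULift.{u} (Fin 3) → (C.A ⟶ P)
  /-- The projection. -/
  π : P ⟶ T
  /-- A pair of charts. -/
  q : Fin 3 → Fin 3 → ((QA C).P ⟶ P)
  star : Star C.i P ι
  hπ : ∀ k, ι k ≫ π = C.l
  hq₁ : ∀ a b, (QA C).ι₁ ≫ q a b = ι ⟨a⟩
  hq₂ : ∀ a b, (QA C).ι₂ ≫ q a b = ι ⟨b⟩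

theorem exists_triple (C : Cross T) : Nonempty (Triple C) := by
  haveI := C.open_i
  obtain ⟨P, ι, hP, hd⟩ := exists_star C.i (ULift.{u} (Fin 3)) ⟨0⟩
  obtain ⟨π, hπ⟩ := hd (fun _ => C.l) fun _ _ => rfl
  choose q hq₁ hq₂ using fun a b : Fin 3 => (QA C).desc (ι ⟨a⟩) (ι ⟨b⟩) (hP.w ⟨a⟩ ⟨b⟩)
  exact ⟨⟨P, ι, π, q, hP, hπ, hq₁, hq₂⟩⟩

section Defs

variable (h : IsFibGrpd 𝒳.p) (η : 𝒳.p.Fiber T) (C : Cross T)

/-- The classes of constant twists. -/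
def InIm (c : IsoNat.IsoCl 𝒳 (QA C).P) : Prop :=
  pb h (QA C).ι₁ c = pb h (QA C).f (IsoNat.cls η) ∧ pb h (QA C).ι₂ c = pb h (QA C).f (IsoNat.cls η) ∧
    ∀ s, pb h (qs C s) c = pb h (QM C).π (IsoNat.cls η)

/-- The cocycle relation. -/
def Rel {C : Cross T} (D : Triple C) (a b c : IsoNat.IsoCl 𝒳 (QA C).P) : Prop :=
  ∃ X : IsoNat.IsoCl 𝒳 D.P, pb h (D.q 0 1) X = a ∧ pb h (D.q 1 2) X = b ∧ pb h (D.q 0 2) X = c

/-- Automorphisms of `η`. -/
abbrev G₁ : Type u := G h η (𝟙 T)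

/-- A constant on the false line, trivial on the true one. -/
def Cst (γ : G₁ h η) (v : (QA C).GW h η) : Prop :=
  ∀ s, res h η (C.inc s) (f := (QA C).j ≫ (QA C).f) (f' := C.t ≫ C.p)
      (by show C.inc s ≫ C.i ≫ C.l = _; rw [reassoc_of% (C.inc_i s), C.m_l]) v =
    if s then 1 else res h η (C.t ≫ C.p) (f := 𝟙 T) (f' := C.t ≫ C.p) (Category.comp_id _) γ

/-- The class of the twist by a constant. -/
def TwCst (γ : G₁ h η) (c : IsoNat.IsoCl 𝒳 (QA C).P) : Prop := ∃ v, Cst h η C γ v ∧ IsTw h η (QA C) v c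

end Defs

section Stack

variable (hS : Stk.IsStack (AlgSp.J S) 𝒳) {η : 𝒳.p.Fiber T} (C : Cross T)

theorem hinc (C : Cross T) (s : Bool) : C.inc s ≫ (QA C).j ≫ (QA C).f = C.t ≫ C.p := by
  show C.inc s ≫ C.i ≫ C.l = _
  rw [reassoc_of% (C.inc_i s), C.m_l]

theorem ext_GW {v v' : (QA C).GW hS.1 η} (e : ∀ s, res hS.1 η (C.inc s) (hinc C s) v = res hS.1 η (C.inc s) (hinc C s) v') :
    v = v' :=
  res_ext_of_cover hS η (fun k : ULift.{u} Bool => C.inc k.down) C.cover (fun k => hinc C k.down) fun k => e k.down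

theorem exists_cst (γ : G₁ hS.1 η) : ∃ v, Cst hS.1 η C γ v := by
  haveI : ∀ k : ULift.{u} Bool, IsOpenImmersion (C.inc k.down).left := fun k => C.open_inc k.down
  obtain ⟨v, hv⟩ := exists_glue_disjoint hS η (fun k : ULift.{u} Bool => C.inc k.down) C.cover
    (fun Z k k' a b e => (C.disjoint Z _ _ a b e).imp (ULift.ext _ _) id) (fun k => hinc C k.down)
    (fun k => if k.down then 1 else res hS.1 η (C.t ≫ C.p) (f := 𝟙 T) (f' := C.t ≫ C.p) (Category.comp_id _) γ)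
  exact ⟨v, fun s => hv ⟨s⟩⟩

theorem cst_mul {γ δ : G₁ hS.1 η} {v w : (QA C).GW hS.1 η} (hv : Cst hS.1 η C γ v) (hw : Cst hS.1 η C δ w) :
    Cst hS.1 η C (γ * δ) (v * w) := fun s => by
  rw [map_mul, hv s, hw s]
  cases s <;> simp [map_mul]

theorem cst_unique {γ : G₁ hS.1 η} {v w : (QA C).GW hS.1 η} (hv : Cst hS.1 η C γ v) (hw : Cst hS.1 η C γ w) : v = w :=
  ext_GW hS C fun s => (hv s).trans (hw s).symm

theorem isTw_of_charts (h : IsFibGrpd 𝒳.p) (η : 𝒳.p.Fiber T) {C : Cross T} (D : Triple C) {x : 𝒳.p.Fiber D.P}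
    {μ : ULift.{u} (Fin 3) → ((zObj h η (QA C).f).1 ⟶ x.1)} {u : ULift.{u} (Fin 3) → (QA C).GW h η}
    (hμ : ∀ k, 𝒳.p.map (μ k) = eqToHom (zObj h η (QA C).f).2 ≫ D.ι k ≫ eqToHom x.2.symm)
    (hx : ∀ k k', (u k).1 ≫ kk h η (QA C).j rfl ≫ μ k = (u k').1 ≫ kk h η (QA C).j rfl ≫ μ k') (a b : Fin 3) :
    IsTw h η (QA C) ((u ⟨a⟩)⁻¹ * u ⟨b⟩) (pb h (D.q a b) (IsoNat.cls x)) := by
  obtain ⟨x', f, hf⟩ := exists_pb h (D.q a b) x
  rw [pb_cls h f hf]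
  haveI := hf
  have mf : 𝒳.p.map f = eqToHom x'.2 ≫ D.q a b ≫ eqToHom x.2.symm := IsHomLift.fac' 𝒳.p (D.q a b) f
  obtain ⟨μ₁, h₁, e₁⟩ := (fibGrpd_fac h f (μ ⟨a⟩)
    (eqToHom (zObj h η (QA C).f).2 ≫ (QA C).ι₁ ≫ eqToHom x'.2.symm) (by
      rw [mf, hμ]; simp [reassoc_of% (D.hq₁ a b)])).exists
  obtain ⟨μ₂, h₂, e₂⟩ := (fibGrpd_fac h f (μ ⟨b⟩)
    (eqToHom (zObj h η (QA C).f).2 ≫ (QA C).ι₂ ≫ eqToHom x'.2.symm) (by
      rw [mf, hμ]; simp [reassoc_of% (D.hq₂ a b)])).exists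
  refine ⟨x', μ₁, μ₂, h₁, h₂, fibGrpd_ext h f ?_ ?_, rfl⟩
  · rw [𝒳.p.map_comp, 𝒳.p.map_comp, 𝒳.p.map_comp, ((u ⟨a⟩)⁻¹ * u ⟨b⟩).2, h₁, h₂, map_kk]
    simp [reassoc_of% (QA C).doubled.sq.w]
  · have hi : (u ⟨a⟩)⁻¹.1 ≫ (u ⟨a⟩).1 = 𝟙 _ :=
      congrArg (fun t : (QA C).GW h η => t.1) (inv_mul_cancel (u ⟨a⟩))
    simp only [Category.assoc, e₁, e₂, G.mul_val]
    rw [← hx ⟨a⟩ ⟨b⟩, reassoc_of% hi]

theorem exists_tripleTwist (hS : Stk.IsStack (AlgSp.J S) 𝒳) (η : 𝒳.p.Fiber T) {C : Cross T} (D : Triple C)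
    (u : ULift.{u} (Fin 3) → (QA C).GW hS.1 η) :
    ∃ (x : 𝒳.p.Fiber D.P) (μ : ULift.{u} (Fin 3) → ((zObj hS.1 η (QA C).f).1 ⟶ x.1)),
      (∀ k, 𝒳.p.map (μ k) = eqToHom (zObj hS.1 η (QA C).f).2 ≫ D.ι k ≫ eqToHom x.2.symm) ∧
      ∀ k k', (u k).1 ≫ kk hS.1 η (QA C).j rfl ≫ μ k = (u k').1 ≫ kk hS.1 η (QA C).j rfl ≫ μ k' := by
  have aux : ∀ {zL zW : 𝒳.obj} (eL : 𝒳.p.obj zL = C.A) (eW : 𝒳.p.obj zW = C.O) (ν : zL ⟶ η.1) (w : zW ⟶ zL)
      (v : ULift.{u} (Fin 3) → (zW ⟶ zW)), (∀ k, 𝒳.p.map (v k) = 𝟙 _) →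
      𝒳.p.map ν = eqToHom eL ≫ C.l ≫ eqToHom η.2.symm → 𝒳.p.map w = eqToHom eW ≫ C.i ≫ eqToHom eL.symm →
      ∃ (x : 𝒳.p.Fiber D.P) (μ : ULift.{u} (Fin 3) → (zL ⟶ x.1)),
        (∀ k, 𝒳.p.map (μ k) = eqToHom eL ≫ D.ι k ≫ eqToHom x.2.symm) ∧
        ∀ k k', v k ≫ w ≫ μ k = v k' ≫ w ≫ μ k' := by
    intro zL zW eL eW ν w v hv hν hw
    have e₀ : ∀ {A O : Over S} (i : O ⟶ A) (eA : 𝒳.p.obj zL = A) (eO : 𝒳.p.obj zW = O) (ι : ULift.{u} (Fin 3) → (A ⟶ D.P)),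
        Star i D.P ι → 𝒳.p.map w = eqToHom eO ≫ i ≫ eqToHom eA.symm →
        Star (𝒳.p.map w) D.P fun k => eqToHom eA ≫ ι k := by
      intro A O i eA eO ι hD hw
      subst eA eO
      simpa [hw] using hD
    obtain ⟨x, hx, μ, hμ, hμ'⟩ := exists_star_twist hS ⟨0⟩ (D.π ≫ eqToHom η.2.symm) (fun k => eqToHom eL ≫ D.ι k)
      ν w (fun k => by rw [hν]; simp [reassoc_of% (D.hπ k)]) (e₀ C.i eL eW D.ι D.star hw) v hv
    exact ⟨⟨x, hx⟩, μ, fun k => by rw [hμ k]; simp, hμ'⟩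
  exact aux (zObj hS.1 η (QA C).f).2 (zObj hS.1 η ((QA C).j ≫ (QA C).f)).2 (ζ hS.1 η (QA C).f)
    (kk hS.1 η (QA C).j rfl) (fun k => (u k).1) (fun k => (u k).2) (map_ζ _ _ _) (map_kk _ _ _ _)

theorem exists_charts (h : IsFibGrpd 𝒳.p) (η : 𝒳.p.Fiber T) {C : Cross T} (D : Triple C) (X : IsoNat.IsoCl 𝒳 D.P)
    (hX : ∀ k, pb h (D.ι k) X = IsoNat.cls (zObj h η (QA C).f)) :
    ∃ (x : 𝒳.p.Fiber D.P) (u : ULift.{u} (Fin 3) → (QA C).GW h η)
      (μ : ULift.{u} (Fin 3) → ((zObj h η (QA C).f).1 ⟶ x.1)),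
      (∀ k, 𝒳.p.map (μ k) = eqToHom (zObj h η (QA C).f).2 ≫ D.ι k ≫ eqToHom x.2.symm) ∧
      (∀ k k', (u k).1 ≫ kk h η (QA C).j rfl ≫ μ k = (u k').1 ≫ kk h η (QA C).j rfl ≫ μ k') ∧
      X = IsoNat.cls x := by
  induction X using Quotient.inductionOn with
  | h x =>
    choose μ hμ using fun k => exists_arrow_of_pb_eq h (x := x) (hX k)
    choose u hum hu using fun k => (fibGrpd_fac h (kk h η (QA C).j rfl ≫ μ k) (kk h η (QA C).j rfl ≫ μ ⟨0⟩) (𝟙 _) (by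
      rw [Category.id_comp, 𝒳.p.map_comp, 𝒳.p.map_comp, map_kk, hμ, hμ]
      simp [reassoc_of% (show (QA C).j ≫ D.ι k = (QA C).j ≫ D.ι ⟨0⟩ from D.star.w k ⟨0⟩)])).exists
    exact ⟨x, fun k => ⟨u k, hum k⟩, μ, hμ, fun k k' => (hu k).trans (hu k').symm, rfl⟩

variable (hab : IsoNat.IsAutAbelian η)
include hab

theorem eq_iff_res {Q : Pair T} {v v' : Q.GW hS.1 η} {c c' : IsoNat.IsoCl 𝒳 Q.P} (hc : IsTw hS.1 η Q v c)
    (hc' : IsTw hS.1 η Q v' c') : c = c' ↔ ∃ a, v = Q.res hS.1 η a * v' := by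
  rw [hc.eq_iff hS hc']
  constructor
  · rintro ⟨a, b, e⟩
    refine ⟨a * b⁻¹, ?_⟩
    rw [map_mul, map_inv, mul_assoc, G.comm hS.1 η _ hab (Q.res hS.1 η b)⁻¹ v', ← mul_assoc, e, mul_assoc,
      mul_inv_cancel, mul_one]
  · rintro ⟨a, rfl⟩
    exact ⟨a, 1, by rw [map_one, mul_one]⟩

theorem twCst_unique {γ : G₁ hS.1 η} {c c' : IsoNat.IsoCl 𝒳 (QA C).P} (hc : TwCst hS.1 η C γ c)
    (hc' : TwCst hS.1 η C γ c') : c = c' := by
  obtain ⟨v, hv, hvc⟩ := hc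
  obtain ⟨w, hw, hwc⟩ := hc'
  exact (eq_iff_res hS hab hvc hwc).2 ⟨1, by rw [map_one, one_mul, cst_unique hS C hv hw]⟩

theorem twCst_injective (hd : AlgSt.RepByAlgSpWith AlgSp.IsSeparatedMor (FibCat.diag (toSelf 𝒳)))
    {γ δ : G₁ hS.1 η} {c : IsoNat.IsoCl 𝒳 (QA C).P} (hc : TwCst hS.1 η C γ c) (hc' : TwCst hS.1 η C δ c) : γ = δ := by
  obtain ⟨v, hv, hvc⟩ := hc
  obtain ⟨w, hw, hwc⟩ := hc'
  obtain ⟨a, ha⟩ := (eq_iff_res hS hab hvc hwc).1 rfl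
  let f : Bool → G hS.1 η C.p := fun s => res hS.1 η (C.m s) (C.m_l s) a
  have key : ∀ s, res hS.1 η C.t rfl (f s) =
      if s then 1 else res hS.1 η (C.t ≫ C.p) (Category.comp_id _) (γ * δ⁻¹) := by
    intro s
    have e1 : res hS.1 η C.t rfl (f s) = res hS.1 η (C.inc s) (hinc C s) ((QA C).res hS.1 η a) := by
      rw [res_res hS.1 η C.t rfl (C.m s) (C.m_l s) rfl (by rw [Category.assoc, C.m_l]),
        res_res hS.1 η (C.inc s) (hinc C s) (QA C).j rfl (k := C.t ≫ C.m s) (C.inc_i s)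
          (by show (C.t ≫ C.m s) ≫ C.l = _; rw [Category.assoc, C.m_l])]
      rfl
    have h3 := congrArg (res hS.1 η (C.inc s) (hinc C s)) ha
    rw [map_mul, hv s, hw s, ← e1] at h3
    cases s
    · simp only [Bool.false_eq_true, if_false] at h3 ⊢
      rw [map_mul, map_inv, h3, mul_assoc, mul_inv_cancel, mul_one]
    · simpa using h3.symm
  have k0 : f false = res hS.1 η C.p (Category.comp_id _) (γ * δ⁻¹) :=
    res_injective_of_dominant hS.1 η hd C.t rfl C.dom (by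
      rw [key false, res_res hS.1 η C.t rfl C.p (Category.comp_id _) rfl (Category.comp_id _)]
      rfl)
  have k1 : f true = 1 := res_injective_of_dominant hS.1 η hd C.t rfl C.dom (by rw [key true, map_one]; rfl)
  have ho : ∀ s, res hS.1 η C.o C.o_p (f s) = res hS.1 η (C.o ≫ C.m false)
      (by show (C.o ≫ C.m false) ≫ C.l = _; rw [Category.assoc, C.m_l, C.o_p]) a := fun s => by
    refine res_res hS.1 η C.o C.o_p (C.m s) (C.m_l s) ?_ _ a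
    cases s
    exacts [rfl, C.o_m.symm]
  have h4 := (ho false).trans (ho true).symm
  rw [k0, k1, map_one, res_res hS.1 η C.o C.o_p C.p (Category.comp_id _) C.o_p (Category.comp_id _),
    res_self hS.1 η _ rfl] at h4
  exact mul_inv_eq_one.1 h4

theorem twCst_inIm {γ : G₁ hS.1 η} {c : IsoNat.IsoCl 𝒳 (QA C).P} (hc : TwCst hS.1 η C γ c) : InIm hS.1 η C c := by
  obtain ⟨v, hv, hvc⟩ := hc
  refine ⟨hvc.pb₁, hvc.pb₂, fun s => ?_⟩
  have h1 := hvc.pullback (Q' := QM C) (C.m s) (C.m_l s) (C.inc s) (C.inc_i s) (qs C s)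
    (exists_qs C s).choose_spec.1 (exists_qs C s).choose_spec.2
  refine (eq_iff_res hS hab h1 isTw_one).2
    ⟨if s then 1 else res hS.1 η C.p (f := 𝟙 T) (f' := (QM C).f) (Category.comp_id _) γ, ?_⟩
  refine (hv s).trans ?_
  cases s
  · simp only [Bool.false_eq_true, if_false, mul_one]
    exact (res_res hS.1 η C.t rfl C.p (Category.comp_id _) rfl (Category.comp_id _) γ).symm
  · simp only [if_true, mul_one]
    exact (map_one _).symm

theorem twCst_surjective {c : IsoNat.IsoCl 𝒳 (QA C).P} (hc : InIm hS.1 η C c) :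
    ∃ γ, TwCst hS.1 η C γ c := by
  obtain ⟨h₁, h₂, hq⟩ := hc
  obtain ⟨v, hv⟩ := exists_isTw_of_pb h₁ h₂
  have ext : ∀ s, ∃ b : G hS.1 η C.p, res hS.1 η (C.inc s) (hinc C s) v = res hS.1 η C.t rfl b := by
    intro s
    have h1 := hv.pullback (Q' := QM C) (C.m s) (C.m_l s) (C.inc s) (C.inc_i s) (qs C s)
      (exists_qs C s).choose_spec.1 (exists_qs C s).choose_spec.2
    obtain ⟨b, hb⟩ := (eq_iff_res hS hab h1 isTw_one).1 (hq s)
    exact ⟨b, hb.trans (mul_one _)⟩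
  choose b hb using ext
  let g : Bool → G₁ hS.1 η := fun s => res hS.1 η C.o C.o_p (b s)
  let γ := g false * (g true)⁻¹
  let a : G hS.1 η C.l := res hS.1 η (C.pr false) (C.pr_p false) (b false) *
    res hS.1 η (C.pr true) (C.pr_p true) (b true) * (res hS.1 η C.l (Category.comp_id _) (g false))⁻¹
  obtain ⟨w, hw⟩ := exists_cst hS C γ
  obtain ⟨c', hc'⟩ := exists_isTw η hS (QA C) w
  refine ⟨γ, w, hw, ?_⟩
  rwa [(eq_iff_res hS hab hv hc').2 ⟨a, ext_GW hS C fun s => ?_⟩]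
  rw [map_mul, hw s, hb s, res_res hS.1 η (C.inc s) (hinc C s) (QA C).j rfl (k := C.t ≫ C.m s) (C.inc_i s)
    (by show (C.t ≫ C.m s) ≫ C.l = _; rw [Category.assoc, C.m_l])]
  erw [← res_res hS.1 η C.t rfl (C.m s) (C.m_l s) rfl (by show (C.t ≫ C.m s) ≫ C.l = _; rw [Category.assoc, C.m_l])]
  have hself : ∀ s', res hS.1 η (C.m s') (C.m_l s') (res hS.1 η (C.pr s') (C.pr_p s') (b s')) = b s' := fun s' => by
    rw [res_res hS.1 η (C.m s') (C.m_l s') (C.pr s') (C.pr_p s') (C.m_pr s') (Category.id_comp _),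
      res_self hS.1 η _ rfl]
  have hcross : ∀ s', res hS.1 η (C.m (!s')) (C.m_l (!s')) (res hS.1 η (C.pr s') (C.pr_p s') (b s')) =
      res hS.1 η C.p (Category.comp_id _) (g s') := fun s' => by
    rw [res_res hS.1 η (C.m (!s')) (C.m_l (!s')) (C.pr s') (C.pr_p s') (C.m_not_pr s')
      (by rw [Category.assoc, C.o_p, Category.comp_id]),
      res_res hS.1 η C.p (Category.comp_id _) C.o C.o_p rfl (by rw [Category.assoc, C.o_p, Category.comp_id])]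
  have hl : res hS.1 η (C.m s) (C.m_l s) (res hS.1 η C.l (Category.comp_id _) (g false)) =
      res hS.1 η C.p (Category.comp_id _) (g false) :=
    res_res hS.1 η (C.m s) (C.m_l s) C.l (Category.comp_id _) (C.m_l s) (Category.comp_id _) _
  cases s
  · have e1 := hcross true
    simp only [Bool.not_true] at e1
    simp only [Bool.false_eq_true, if_false]
    rw [show res hS.1 η (C.t ≫ C.p) _ γ = res hS.1 η C.t rfl (res hS.1 η C.p (Category.comp_id _) γ) from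
      (res_res hS.1 η C.t rfl C.p (Category.comp_id _) rfl (Category.comp_id _) γ).symm, ← map_mul]
    congr 1
    simp only [a, γ, map_mul, map_inv, hself false, e1, hl]
    group
  · have e1 := hcross false
    simp only [Bool.not_false] at e1
    simp only [if_true, mul_one]
    congr 1
    simp only [a, map_mul, map_inv, hself true, e1, hl]
    rw [G.comm hS.1 η _ hab (res hS.1 η C.p (Category.comp_id _) (g false)) (b true), mul_assoc, mul_inv_cancel,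
      mul_one]

theorem exists_rel (D : Triple C) {γ δ : G₁ hS.1 η} {a b c : IsoNat.IsoCl 𝒳 (QA C).P} (ha : TwCst hS.1 η C γ a)
    (hb : TwCst hS.1 η C δ b) (hc : TwCst hS.1 η C (γ * δ) c) : Rel hS.1 D a b c := by
  obtain ⟨v, hv, hva⟩ := ha
  obtain ⟨w, hw, hwb⟩ := hb
  obtain ⟨vw, hvw, hvwc⟩ := hc
  obtain rfl := cst_unique hS C hvw (cst_mul hS C hv hw)
  let u : Fin 3 → (QA C).GW hS.1 η := ![1, v, v * w]
  obtain ⟨x, μ, hμ, hx⟩ := exists_tripleTwist hS η D fun k => u k.down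
  refine ⟨IsoNat.cls x, ?_, ?_, ?_⟩
  · exact (eq_iff_res hS hab (isTw_of_charts hS.1 η D hμ hx 0 1) hva).2 ⟨1, by simp [u]⟩
  · exact (eq_iff_res hS hab (isTw_of_charts hS.1 η D hμ hx 1 2) hwb).2 ⟨1, by simp [u]⟩
  · exact (eq_iff_res hS hab (isTw_of_charts hS.1 η D hμ hx 0 2) hvwc).2 ⟨1, by simp [u]⟩

theorem eq_mul_of_rel (hd : AlgSt.RepByAlgSpWith AlgSp.IsSeparatedMor (FibCat.diag (toSelf 𝒳))) (D : Triple C)
    {γ δ ε : G₁ hS.1 η} {a b c : IsoNat.IsoCl 𝒳 (QA C).P} (ha : TwCst hS.1 η C γ a)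
    (hb : TwCst hS.1 η C δ b) (hc : TwCst hS.1 η C ε c) (hR : Rel hS.1 D a b c) : ε = γ * δ := by
  obtain ⟨v, hv, hva⟩ := ha
  obtain ⟨w, hw, hwb⟩ := hb
  obtain ⟨z, hz, hzc⟩ := hc
  obtain ⟨X, hX₁, hX₂, hX₃⟩ := hR
  obtain ⟨x, u, μ, hμ, hx, rfl⟩ := exists_charts hS.1 η D X (fun k => by
    obtain ⟨k⟩ := k
    fin_cases k
    · rw [← pb_η]; exact (hva.pb₁).symm.trans (by rw [← hX₁, pb_comp, D.hq₁]; rfl) |>.symm
    · rw [← pb_η]; exact (hwb.pb₁).symm.trans (by rw [← hX₂, pb_comp, D.hq₁]; rfl) |>.symm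
    · rw [← pb_η]; exact (hwb.pb₂).symm.trans (by rw [← hX₂, pb_comp, D.hq₂]; rfl) |>.symm)
  have h01 := isTw_of_charts hS.1 η D hμ hx 0 1
  have h12 := isTw_of_charts hS.1 η D hμ hx 1 2
  have h02 := isTw_of_charts hS.1 η D hμ hx 0 2
  obtain ⟨p, hp⟩ := (eq_iff_res hS hab hva h01).1 hX₁.symm
  obtain ⟨q, hq⟩ := (eq_iff_res hS hab hwb h12).1 hX₂.symm
  obtain ⟨r, hr⟩ := (eq_iff_res hS hab hzc h02).1 hX₃.symm
  obtain ⟨c', hc'⟩ := exists_isTw η hS (QA C) (v * w)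
  have : c' = c := by
    refine (eq_iff_res hS hab hc' hzc).2 ⟨p * q * r⁻¹, ?_⟩
    have comm := fun x y : (QA C).GW hS.1 η => G.comm hS.1 η _ hab x y
    letI : CommGroup ((QA C).GW hS.1 η) := { (inferInstance : Group ((QA C).GW hS.1 η)) with mul_comm := comm }
    rw [map_mul, map_mul, map_inv, hp, hq, hr]
    rw [mul_mul_mul_comm]
    group
  subst this
  exact twCst_injective hS C hab hd ⟨z, hz, hzc⟩ ⟨v * w, cst_mul hS C hv hw, hc'⟩

end Stack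

end Groth.Agent.IsoNatLib.AutIso
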