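import Groth.Agent.IsoNatLib.AutIso.Final

/-!
# The comparison of automorphism groups read on classes is natural
-/

set_option autoImplicit false
set_option linter.style.haveILetI false
set_option backward.isDefEq.respectTransparency false
set_option backward.isDefEq.respectTransparency.types false

universe u

open CategoryTheory CategoryTheory.Limits AlgebraicGeometry Opposite FibCat
open Groth.Agent.Stk19 Groth.Agent.Desc19 Groth.Agent.IsoNatLib.Twist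

namespace Groth.Agent.IsoNatLib.AutIso

variable {S : Scheme.{u}} {𝒳 𝒴 : AlgSt.Cat S}

section BC

variable {T' T : Over S} (g : T' ⟶ T)

/-- The map of base changes. -/
noncomputable def bcG (X : Over (Spec R₀.{u})) : (bc T').obj X ⟶ (bc T).obj X :=
  Over.homMk (pullback.lift (pullback.fst X.hom (toR₀ T')) (pullback.snd X.hom (toR₀ T') ≫ g.left) (by
    rw [Category.assoc, specULiftZIsTerminal.hom_ext (g.left ≫ toR₀ T) (toR₀ T'), pullback.condition])) (by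
    show pullback.lift _ _ _ ≫ pullback.snd _ _ ≫ T.hom = pullback.snd _ _ ≫ T'.hom
    rw [pullback.lift_snd_assoc, Category.assoc, Over.w g])

theorem bcG_P (X : Over (Spec R₀.{u})) : bcG g X ≫ bcP X = bcP X ≫ g :=
  Over.OverMorphism.ext (pullback.lift_snd _ _ _)

theorem bcG_map {X Y : Over (Spec R₀.{u})} (k : X ⟶ Y) : (bc T').map k ≫ bcG g Y = bcG g X ≫ (bc T).map k := by
  refine Over.OverMorphism.ext ?_
  rw [Over.comp_left, Over.comp_left, bc_map_left, bc_map_left]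
  refine pullback.hom_ext ?_ ?_ <;> simp [bcG]

/-- A map of crossings over a map of the bases. -/
structure CrossMap (C' : Cross T') (C : Cross T) where
  /-- on the crossings -/
  a : C'.A ⟶ C.A
  /-- on the punctured crossings -/
  b : C'.O ⟶ C.O
  /-- on the punctured lines -/
  v : C'.V ⟶ C.V
  i_a : C'.i ≫ a = b ≫ C.i
  inc_b : ∀ s, C'.inc s ≫ b = v ≫ C.inc s
  a_l : a ≫ C.l = C'.l ≫ g

/-- The map of the standard crossings. -/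
noncomputable def crossMap : CrossMap g (cross T') (cross T) where
  a := bcG g _
  b := bcG g _
  v := bcG g _
  i_a := bcG_map g _
  inc_b _ := bcG_map g _
  a_l := bcG_P g _

end BC

section Pull

variable (h : IsFibGrpd 𝒳.p) {T' T : Over S} {η : 𝒳.p.Fiber T} {η' : 𝒳.p.Fiber T'} {g : T' ⟶ T}
  (k : η'.1 ⟶ η.1) (hk : 𝒳.p.map k = eqToHom η'.2 ≫ g ≫ eqToHom η.2.symm)

include hk in
theorem exists_KK {X' X : Over S} {f' : X' ⟶ T'} {f : X ⟶ T} (gX : X' ⟶ X) (hg : gX ≫ f = f' ≫ g) :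
    ∃ K : (zObj h η' f').1 ⟶ (zObj h η f).1,
      𝒳.p.map K = eqToHom (zObj h η' f').2 ≫ gX ≫ eqToHom (zObj h η f).2.symm ∧ K ≫ ζ h η f = ζ h η' f' ≫ k :=
  (fibGrpd_fac h (ζ h η f) (ζ h η' f' ≫ k) _ (by
    rw [map_ζ, 𝒳.p.map_comp, map_ζ, hk]
    simp [reassoc_of% hg])).exists

/-- The arrow between pullbacks of two objects. -/
noncomputable def KK {X' X : Over S} {f' : X' ⟶ T'} {f : X ⟶ T} (gX : X' ⟶ X) (hg : gX ≫ f = f' ≫ g) :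
    (zObj h η' f').1 ⟶ (zObj h η f).1 :=
  (exists_KK h k hk gX hg).choose

theorem map_KK {X' X : Over S} {f' : X' ⟶ T'} {f : X ⟶ T} (gX : X' ⟶ X) (hg : gX ≫ f = f' ≫ g) :
    𝒳.p.map (KK h k hk gX hg) = eqToHom (zObj h η' f').2 ≫ gX ≫ eqToHom (zObj h η f).2.symm :=
  (exists_KK h k hk gX hg).choose_spec.1

@[reassoc]
theorem KK_ζ {X' X : Over S} {f' : X' ⟶ T'} {f : X ⟶ T} (gX : X' ⟶ X) (hg : gX ≫ f = f' ≫ g) :
    KK h k hk gX hg ≫ ζ h η f = ζ h η' f' ≫ k :=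
  (exists_KK h k hk gX hg).choose_spec.2

theorem kk_KK {X' X Y' Y : Over S} {f' : X' ⟶ T'} {f : X ⟶ T} {e' : Y' ⟶ T'} {e : Y ⟶ T} (gX : X' ⟶ X)
    (hgX : gX ≫ f = f' ≫ g) (gY : Y' ⟶ Y) (hgY : gY ≫ e = e' ≫ g) (p' : Y' ⟶ X') (hp' : p' ≫ f' = e')
    (p : Y ⟶ X) (hp : p ≫ f = e) (sq : p' ≫ gX = gY ≫ p) :
    kk h η' p' hp' ≫ KK h k hk gX hgX = KK h k hk gY hgY ≫ kk h η p hp := by
  refine fibGrpd_ext h (ζ h η f) ?_ ?_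
  · rw [𝒳.p.map_comp, 𝒳.p.map_comp, map_kk, map_kk, map_KK, map_KK]
    simp [reassoc_of% sq]
  · rw [Category.assoc, KK_ζ, kk_ζ_assoc, Category.assoc, kk_ζ, KK_ζ]

theorem twCst_pullback {C' : Cross T'} {C : Cross T} (M : CrossMap g C' C) {γ : G₁ h η}
    {γ' : G₁ h η'} (hγ : IsRes (KK h k hk (f' := 𝟙 T') (f := 𝟙 T) g (by simp)) γ.1 γ'.1) {c : IsoNat.IsoCl 𝒳 (QA C).P}
    (hc : TwCst h η C γ c) (q : (QA C').P ⟶ (QA C).P) (hq₁ : (QA C').ι₁ ≫ q = M.a ≫ (QA C).ι₁)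
    (hq₂ : (QA C').ι₂ ≫ q = M.a ≫ (QA C).ι₂) : TwCst h η' C' γ' (pb h q c) := by
  obtain ⟨v, hv, x, μ₁, μ₂, h₁, h₂, h12, rfl⟩ := hc
  have hO : M.b ≫ (QA C).j ≫ (QA C).f = ((QA C').j ≫ (QA C').f) ≫ g := by
    show M.b ≫ C.i ≫ C.l = (C'.i ≫ C'.l) ≫ g
    rw [Category.assoc, ← reassoc_of% M.i_a, M.a_l]
  obtain ⟨w₀, hw₀⟩ := exists_res h (KK h k hk M.b hO) v.2
  let w : (QA C').GW h η' := ⟨w₀, hw₀.map_eq⟩
  refine ⟨w, fun s => Subtype.ext ?_, ?_⟩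
  · have hV : M.v ≫ C.t ≫ C.p = (C'.t ≫ C'.p) ≫ g := by
      rw [← hinc C s, ← hinc C' s]
      show M.v ≫ C.inc s ≫ C.i ≫ C.l = (C'.inc s ≫ C'.i ≫ C'.l) ≫ g
      rw [← reassoc_of% M.inc_b, Category.assoc, Category.assoc, ← reassoc_of% M.i_a, M.a_l]
    have hL : IsRes (KK h k hk M.v hV) (res h η (C.inc s) (hinc C s) v).1
        (res h η' (C'.inc s) (hinc C' s) w).1 := by
      refine (isRes_res h η (C.inc s) (hinc C s) v).of_comp h ?_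
      rw [← kk_KK h k hk M.b hO M.v hV (C'.inc s) (hinc C' s) (C.inc s) (hinc C s) (M.inc_b s)]
      exact hw₀.trans (isRes_res h η' (C'.inc s) (hinc C' s) w)
    rw [hv s] at hL
    cases s
    · simp only [Bool.false_eq_true, if_false] at hL ⊢
      refine hL.unique h ((isRes_res h η (C.t ≫ C.p) _ γ).of_comp h ?_)
      rw [← kk_KK h k hk (f' := 𝟙 T') (f := 𝟙 T) g (by simp) M.v hV (C'.t ≫ C'.p) (Category.comp_id _)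
        (C.t ≫ C.p) (Category.comp_id _) hV.symm]
      exact hγ.trans (isRes_res h η' (C'.t ≫ C'.p) _ γ')
    · simp only [if_true] at hL ⊢
      exact hL.unique h IsRes.id
  · have hA : M.a ≫ (QA C).f = (QA C').f ≫ g := M.a_l
    obtain ⟨x', a, ha⟩ := exists_pb h q x
    rw [pb_cls h a ha]
    haveI := ha
    have ma : 𝒳.p.map a = eqToHom x'.2 ≫ q ≫ eqToHom x.2.symm := IsHomLift.fac' 𝒳.p q a
    obtain ⟨μ₁', h₁', e₁⟩ := (fibGrpd_fac h a (KK h k hk M.a hA ≫ μ₁)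
      (eqToHom (zObj h η' (QA C').f).2 ≫ (QA C').ι₁ ≫ eqToHom x'.2.symm) (by
        rw [ma, 𝒳.p.map_comp, map_KK, h₁]; simp [reassoc_of% hq₁])).exists
    obtain ⟨μ₂', h₂', e₂⟩ := (fibGrpd_fac h a (KK h k hk M.a hA ≫ μ₂)
      (eqToHom (zObj h η' (QA C').f).2 ≫ (QA C').ι₂ ≫ eqToHom x'.2.symm) (by
        rw [ma, 𝒳.p.map_comp, map_KK, h₂]; simp [reassoc_of% hq₂])).exists
    refine ⟨x', μ₁', μ₂', h₁', h₂', fibGrpd_ext h a ?_ ?_, rfl⟩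
    · rw [𝒳.p.map_comp, 𝒳.p.map_comp, 𝒳.p.map_comp, map_kk, h₁', h₂', w.2]
      simp [reassoc_of% (QA C').doubled.sq.w]
    · have k₁ : kk h η' (QA C').j rfl ≫ KK h k hk M.a hA = KK h k hk M.b hO ≫ kk h η (QA C).j rfl :=
        kk_KK h k hk M.a hA M.b hO (QA C').j rfl (QA C).j rfl M.i_a
      simp only [Category.assoc, e₁, e₂]
      rw [reassoc_of% k₁, h12, ← reassoc_of% hw₀.comm, reassoc_of% k₁]

end Pull

section Corr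

variable (hX : IsFibGrpd 𝒳.p) (φ : IsoNat.FIso 𝒳 𝒴) (hY : IsFibGrpd 𝒴.p)

/-- The automorphisms with corresponding classes of twists. -/
def Corr {T : Over S} (η : 𝒳.p.Fiber T) (η' : 𝒴.p.Fiber T) (γ : G₁ hX η) (γ' : G₁ hY η') : Prop :=
  ∃ c, TwCst hX η (cross T) γ c ∧ TwCst hY η' (cross T) γ' (φ.toEquiv _ c)

/-- Vertical automorphisms of objects with corresponding twists. -/
def CorrO {T : Over S} (η : 𝒳.p.Fiber T) (η' : 𝒴.p.Fiber T) (s : η.1 ⟶ η.1) (s' : η'.1 ⟶ η'.1) : Prop :=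
  ∃ (γ : G₁ hX η) (γ' : G₁ hY η'), IsRes (ζ hX η (𝟙 T)) s γ.1 ∧ IsRes (ζ hY η' (𝟙 T)) s' γ'.1 ∧
    Corr hX φ hY η η' γ γ'

theorem corr_pullback {T' T : Over S} {g : T' ⟶ T} {η : 𝒳.p.Fiber T} {η₁ : 𝒳.p.Fiber T'} {η' : 𝒴.p.Fiber T}
    {η₁' : 𝒴.p.Fiber T'} (k : η₁.1 ⟶ η.1) (hk : 𝒳.p.map k = eqToHom η₁.2 ≫ g ≫ eqToHom η.2.symm)
    (l : η₁'.1 ⟶ η'.1) (hl : 𝒴.p.map l = eqToHom η₁'.2 ≫ g ≫ eqToHom η'.2.symm) {γ : G₁ hX η} {γ₁ : G₁ hX η₁}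
    {γ' : G₁ hY η'} {γ₁' : G₁ hY η₁'} (h₁ : IsRes (KK hX k hk (f' := 𝟙 T') (f := 𝟙 T) g (by simp)) γ.1 γ₁.1)
    (h₂ : IsRes (KK hY l hl (f' := 𝟙 T') (f := 𝟙 T) g (by simp)) γ'.1 γ₁'.1) (hc : Corr hX φ hY η η' γ γ') :
    Corr hX φ hY η₁ η₁' γ₁ γ₁' := by
  obtain ⟨c, hc, hc'⟩ := hc
  let M := crossMap g
  obtain ⟨q, hq₁, hq₂⟩ := (QA (cross T')).desc (M.a ≫ (QA (cross T)).ι₁) (M.a ≫ (QA (cross T)).ι₂) (by
    show (cross T').i ≫ _ = (cross T').i ≫ _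
    rw [reassoc_of% M.i_a, reassoc_of% M.i_a]
    congr 1
    exact (QA (cross T)).doubled.sq.w)
  refine ⟨pb hX q c, twCst_pullback hX k hk M h₁ hc q hq₁ hq₂, ?_⟩
  rw [pb_natural hX φ hY]
  exact twCst_pullback hY l hl M h₂ hc' q hq₁ hq₂

theorem corrO_pullback {T' T : Over S} {g : T' ⟶ T} {η : 𝒳.p.Fiber T} {η₁ : 𝒳.p.Fiber T'} {η' : 𝒴.p.Fiber T}
    {η₁' : 𝒴.p.Fiber T'} {k : η₁.1 ⟶ η.1} (hk : 𝒳.p.map k = eqToHom η₁.2 ≫ g ≫ eqToHom η.2.symm)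
    {l : η₁'.1 ⟶ η'.1} (hl : 𝒴.p.map l = eqToHom η₁'.2 ≫ g ≫ eqToHom η'.2.symm) {s : η.1 ⟶ η.1}
    {s₁ : η₁.1 ⟶ η₁.1} {s' : η'.1 ⟶ η'.1} {s₁' : η₁'.1 ⟶ η₁'.1} (h₁ : IsRes k s s₁) (h₂ : IsRes l s' s₁')
    (hc : CorrO hX φ hY η η' s s') : CorrO hX φ hY η₁ η₁' s₁ s₁' := by
  obtain ⟨γ, γ', hγ, hγ', hc⟩ := hc
  obtain ⟨δ, hδ⟩ := exists_res hX (ζ hX η₁ (𝟙 T')) h₁.map_eq
  obtain ⟨δ', hδ'⟩ := exists_res hY (ζ hY η₁' (𝟙 T')) h₂.map_eq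
  refine ⟨⟨δ, hδ.map_eq⟩, ⟨δ', hδ'.map_eq⟩, hδ, hδ', corr_pullback hX φ hY k hk l hl ?_ ?_ hc⟩
  · refine hγ.of_comp hX ?_
    rw [KK_ζ]
    exact h₁.trans hδ
  · refine hγ'.of_comp hY ?_
    rw [KK_ζ]
    exact h₂.trans hδ'

end Corr

section Group

variable (hX : Stk.IsStack (AlgSp.J S) 𝒳) (hY : Stk.IsStack (AlgSp.J S) 𝒴)
  (hdX : AlgSt.RepByAlgSpWith AlgSp.IsSeparatedMor (FibCat.diag (toSelf 𝒳)))
  (hdY : AlgSt.RepByAlgSpWith AlgSp.IsSeparatedMor (FibCat.diag (toSelf 𝒴))) (φ : IsoNat.FIso 𝒳 𝒴)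
  {T : Over S} {η : 𝒳.p.Fiber T} {η' : 𝒴.p.Fiber T} (hη : φ.toEquiv T (IsoNat.cls η) = IsoNat.cls η')
  (hab : IsoNat.IsAutAbelian η) (hab' : IsoNat.IsAutAbelian η')

include hab hab' hη in
theorem exists_corr (γ : G₁ hX.1 η) : ∃ γ', Corr hX.1 φ hY.1 η η' γ γ' := by
  obtain ⟨v, hv⟩ := exists_cst hX (cross T) γ
  obtain ⟨c, hc⟩ := exists_isTw η hX (QA (cross T)) v
  obtain ⟨γ', hγ'⟩ := twCst_surjective hY (cross T) hab'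
    ((inIm_transfer hX.1 hY.1 φ hη _ c).2 (twCst_inIm hX (cross T) hab ⟨v, hv, hc⟩))
  exact ⟨γ', c, ⟨v, hv, hc⟩, hγ'⟩

include hab hab' hη in
theorem exists_corr' (γ' : G₁ hY.1 η') : ∃ γ, Corr hX.1 φ hY.1 η η' γ γ' := by
  obtain ⟨v, hv⟩ := exists_cst hY (cross T) γ'
  obtain ⟨c, hc⟩ := exists_isTw η' hY (QA (cross T)) v
  obtain ⟨γ, hγ⟩ := twCst_surjective hX (cross T) hab ((inIm_transfer hX.1 hY.1 φ hη _ _).1 (by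
    rw [Equiv.apply_symm_apply]; exact twCst_inIm hY (cross T) hab' ⟨v, hv, hc⟩))
  refine ⟨γ, _, hγ, ?_⟩
  rw [Equiv.apply_symm_apply]
  exact ⟨v, hv, hc⟩

include hab hab' hdY in
theorem Corr.unique {γ : G₁ hX.1 η} {γ' δ' : G₁ hY.1 η'} (h₁ : Corr hX.1 φ hY.1 η η' γ γ')
    (h₂ : Corr hX.1 φ hY.1 η η' γ δ') : γ' = δ' := by
  obtain ⟨c, hc, hc'⟩ := h₁
  obtain ⟨d, hd, hd'⟩ := h₂
  obtain rfl := twCst_unique hX (cross T) hab hc hd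
  exact twCst_injective hY (cross T) hab' hdY hc' hd'

include hab hab' hdX in
theorem Corr.unique' {γ δ : G₁ hX.1 η} {γ' : G₁ hY.1 η'} (h₁ : Corr hX.1 φ hY.1 η η' γ γ')
    (h₂ : Corr hX.1 φ hY.1 η η' δ γ') : γ = δ := by
  obtain ⟨c, hc, hc'⟩ := h₁
  obtain ⟨d, hd, hd'⟩ := h₂
  obtain rfl := (φ.toEquiv _).injective (twCst_unique hY (cross T) hab' hc' hd')
  exact twCst_injective hX (cross T) hab hdX hc hd

include hab hab' hη hdY in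
theorem Corr.mul {γ δ : G₁ hX.1 η} {γ' δ' : G₁ hY.1 η'} (h₁ : Corr hX.1 φ hY.1 η η' γ γ')
    (h₂ : Corr hX.1 φ hY.1 η η' δ δ') : Corr hX.1 φ hY.1 η η' (γ * δ) (γ' * δ') := by
  obtain ⟨ε', hε⟩ := exists_corr hX hY φ hη hab hab' (γ * δ)
  obtain ⟨a, ha, ha'⟩ := h₁
  obtain ⟨b, hb, hb'⟩ := h₂
  obtain ⟨D⟩ := exists_triple (cross T)
  obtain ⟨c, hc, hc'⟩ := id hε
  obtain ⟨X, e₁, e₂, e₃⟩ := exists_rel hX (cross T) hab D ha hb hc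
  rwa [← eq_mul_of_rel hY (cross T) hab' hdY D ha' hb' hc' ⟨φ.toEquiv _ X,
      by rw [← pb_natural hX.1 φ hY.1, e₁], by rw [← pb_natural hX.1 φ hY.1, e₂],
      by rw [← pb_natural hX.1 φ hY.1, e₃]⟩]

theorem isIso_ζ (h : IsFibGrpd 𝒳.p) (η : 𝒳.p.Fiber T) : IsIso (ζ h η (𝟙 T)) := by
  have mζ : 𝒳.p.map (ζ h η (𝟙 T)) = eqToHom ((zObj h η (𝟙 T)).2.trans η.2.symm) := by
    rw [map_ζ]; simp
  have : IsIso (𝒳.p.map (ζ h η (𝟙 T))) := by rw [mζ]; infer_instance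
  exact fibGrpd_isIso h _

theorem exists_unres (h : IsFibGrpd 𝒳.p) (η : 𝒳.p.Fiber T) (γ : G₁ h η) :
    ∃ s : η.1 ⟶ η.1, 𝒳.p.map s = 𝟙 _ ∧ IsRes (ζ h η (𝟙 T)) s γ.1 := by
  haveI := isIso_ζ h η
  refine ⟨inv (ζ h η (𝟙 T)) ≫ γ.1 ≫ ζ h η (𝟙 T), ?_, γ.2, by simp⟩
  rw [𝒳.p.map_comp, 𝒳.p.map_comp, γ.2, Category.id_comp, ← 𝒳.p.map_comp, IsIso.inv_hom_id, 𝒳.p.map_id]

theorem res_cancel (h : IsFibGrpd 𝒳.p) (η : 𝒳.p.Fiber T) {γ : G₁ h η} {s t : η.1 ⟶ η.1}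
    (hs : IsRes (ζ h η (𝟙 T)) s γ.1) (ht : IsRes (ζ h η (𝟙 T)) t γ.1) : s = t := by
  haveI := isIso_ζ h η
  exact (cancel_epi (ζ h η (𝟙 T))).1 (hs.comm.symm.trans ht.comm)

include hab hab' hη in
theorem exists_corrO {s : η.1 ⟶ η.1} (hs : 𝒳.p.map s = 𝟙 _) :
    ∃ s', 𝒴.p.map s' = 𝟙 _ ∧ CorrO hX.1 φ hY.1 η η' s s' := by
  obtain ⟨γ, hγ⟩ := exists_res hX.1 (ζ hX.1 η (𝟙 T)) hs
  obtain ⟨γ', hc⟩ := exists_corr hX hY φ hη hab hab' ⟨γ, hγ.map_eq⟩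
  obtain ⟨s', hs', hr⟩ := exists_unres hY.1 η' γ'
  exact ⟨s', hs', _, γ', hγ, hr, hc⟩

include hab hab' hη in
theorem exists_corrO' {s' : η'.1 ⟶ η'.1} (hs : 𝒴.p.map s' = 𝟙 _) :
    ∃ s, 𝒳.p.map s = 𝟙 _ ∧ CorrO hX.1 φ hY.1 η η' s s' := by
  obtain ⟨γ', hγ⟩ := exists_res hY.1 (ζ hY.1 η' (𝟙 T)) hs
  obtain ⟨γ, hc⟩ := exists_corr' hX hY φ hη hab hab' ⟨γ', hγ.map_eq⟩
  obtain ⟨s, hs', hr⟩ := exists_unres hX.1 η γ
  exact ⟨s, hs', γ, _, hr, hγ, hc⟩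

include hab hab' hdY in
theorem CorrO.unique {s : η.1 ⟶ η.1} {s' t' : η'.1 ⟶ η'.1} (h₁ : CorrO hX.1 φ hY.1 η η' s s')
    (h₂ : CorrO hX.1 φ hY.1 η η' s t') : s' = t' := by
  obtain ⟨γ, γ', hγ, hγ', hc⟩ := h₁
  obtain ⟨δ, δ', hδ, hδ', hd⟩ := h₂
  obtain rfl : γ = δ := Subtype.ext (hγ.unique hX.1 hδ)
  obtain rfl := Corr.unique hX hY hdY φ hab hab' hc hd
  exact res_cancel hY.1 η' hγ' hδ'

include hab hab' hdX in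
theorem CorrO.unique' {s t : η.1 ⟶ η.1} {s' : η'.1 ⟶ η'.1} (h₁ : CorrO hX.1 φ hY.1 η η' s s')
    (h₂ : CorrO hX.1 φ hY.1 η η' t s') : s = t := by
  obtain ⟨γ, γ', hγ, hγ', hc⟩ := h₁
  obtain ⟨δ, δ', hδ, hδ', hd⟩ := h₂
  obtain rfl : γ' = δ' := Subtype.ext (hγ'.unique hY.1 hδ')
  obtain rfl := Corr.unique' hX hY hdX φ hab hab' hc hd
  exact res_cancel hX.1 η hγ hδ

include hab hab' hη hdY in
theorem CorrO.comp {s t : η.1 ⟶ η.1} {s' t' : η'.1 ⟶ η'.1} (h₁ : CorrO hX.1 φ hY.1 η η' s s')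
    (h₂ : CorrO hX.1 φ hY.1 η η' t t') : CorrO hX.1 φ hY.1 η η' (s ≫ t) (s' ≫ t') := by
  obtain ⟨γ, γ', hγ, hγ', hc⟩ := h₁
  obtain ⟨δ, δ', hδ, hδ', hd⟩ := h₂
  exact ⟨γ * δ, γ' * δ', hγ.comp hδ, hγ'.comp hδ', Corr.mul hX hY hdY φ hη hab hab' hc hd⟩

end Group

end Groth.Agent.IsoNatLib.AutIso
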