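import Groth.Agent.IsoNatLib.AutIso.Aut

/-!
# Classes over a doubled scheme near one object, as twists
-/

set_option autoImplicit false
set_option linter.style.haveILetI false
set_option backward.isDefEq.respectTransparency false
set_option backward.isDefEq.respectTransparency.types false

universe u

open CategoryTheory CategoryTheory.Limits AlgebraicGeometry Opposite FibCat
open Groth.Agent.Stk19 Groth.Agent.Desc19 Groth.Agent.IsoNatLib.Twist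

namespace Groth.Agent.IsoNatLib.AutIso

variable {S : Scheme.{u}} {𝒳 : AlgSt.Cat S}

/-- A doubled scheme over `T`. -/
structure Pair (T : Over S) where
  /-- The charts. -/
  L : Over S
  /-- The overlap. -/
  W : Over S
  /-- The doubled scheme. -/
  P : Over S
  /-- The inclusion. -/
  j : W ⟶ L
  /-- First chart. -/
  ι₁ : L ⟶ P
  /-- Second chart. -/
  ι₂ : L ⟶ P
  /-- The projection. -/
  π : P ⟶ T
  /-- The projection of a chart. -/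
  f : L ⟶ T
  doubled : Doubled j P ι₁ ι₂
  hπ₁ : ι₁ ≫ π = f
  hπ₂ : ι₂ ≫ π = f
  desc : ∀ {T' : Over S} (f₁ f₂ : L ⟶ T'), j ≫ f₁ = j ≫ f₂ → ∃ π : P ⟶ T', ι₁ ≫ π = f₁ ∧ ι₂ ≫ π = f₂

theorem exists_pair {T L W : Over S} (j : W ⟶ L) [IsOpenImmersion j.left] (f : L ⟶ T) :
    ∃ (P : Over S) (ι₁ ι₂ : L ⟶ P) (π : P ⟶ T), Doubled j P ι₁ ι₂ ∧ ι₁ ≫ π = f ∧ ι₂ ≫ π = f ∧
      ∀ {T' : Over S} (f₁ f₂ : L ⟶ T'), j ≫ f₁ = j ≫ f₂ → ∃ π : P ⟶ T', ι₁ ≫ π = f₁ ∧ ι₂ ≫ π = f₂ := by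
  obtain ⟨P, ι₁, ι₂, hP, hd⟩ := exists_doubled j
  obtain ⟨π, h₁, h₂⟩ := hd f f rfl
  exact ⟨P, ι₁, ι₂, π, hP, h₁, h₂, hd⟩

/-- The doubled scheme on a chart. -/
noncomputable def mkPair {T L W : Over S} (j : W ⟶ L) [IsOpenImmersion j.left] (f : L ⟶ T) : Pair T where
  L := L
  W := W
  P := (exists_pair j f).choose
  j := j
  ι₁ := (exists_pair j f).choose_spec.choose
  ι₂ := (exists_pair j f).choose_spec.choose_spec.choose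
  π := (exists_pair j f).choose_spec.choose_spec.choose_spec.choose
  f := f
  doubled := (exists_pair j f).choose_spec.choose_spec.choose_spec.choose_spec.1
  hπ₁ := (exists_pair j f).choose_spec.choose_spec.choose_spec.choose_spec.2.1
  hπ₂ := (exists_pair j f).choose_spec.choose_spec.choose_spec.choose_spec.2.2.1
  desc := (exists_pair j f).choose_spec.choose_spec.choose_spec.choose_spec.2.2.2

variable (h : IsFibGrpd 𝒳.p) {T : Over S} (η : 𝒳.p.Fiber T)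

/-- Automorphisms on the overlap. -/
abbrev Pair.GW (Q : Pair T) : Type u := G h η (Q.j ≫ Q.f)

/-- Restriction to the overlap. -/
noncomputable abbrev Pair.res (Q : Pair T) : G h η Q.f →* Q.GW h η := AutIso.res h η Q.j rfl

/-- The class `c` is the twist by `v`. -/
def IsTw (Q : Pair T) (v : Q.GW h η) (c : IsoNat.IsoCl 𝒳 Q.P) : Prop :=
  ∃ (x : 𝒳.p.Fiber Q.P) (μ₁ μ₂ : (zObj h η Q.f).1 ⟶ x.1),
    𝒳.p.map μ₁ = eqToHom (zObj h η Q.f).2 ≫ Q.ι₁ ≫ eqToHom x.2.symm ∧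
    𝒳.p.map μ₂ = eqToHom (zObj h η Q.f).2 ≫ Q.ι₂ ≫ eqToHom x.2.symm ∧
    kk h η Q.j rfl ≫ μ₁ = v.1 ≫ kk h η Q.j rfl ≫ μ₂ ∧ c = IsoNat.cls x

theorem exists_twist' (hS : Stk.IsStack (AlgSp.J S) 𝒳) {L W P : Over S} {j : W ⟶ L} {ι₁ ι₂ : L ⟶ P}
    (hD : Doubled j P ι₁ ι₂) {η zL zW : 𝒳.obj} (eL : 𝒳.p.obj zL = L) (eW : 𝒳.p.obj zW = W) (π : P ⟶ 𝒳.p.obj η)
    (ν : zL ⟶ η) (w : zW ⟶ zL) (hπ₁ : eqToHom eL ≫ ι₁ ≫ π = 𝒳.p.map ν) (hπ₂ : eqToHom eL ≫ ι₂ ≫ π = 𝒳.p.map ν)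
    (hw : 𝒳.p.map w = eqToHom eW ≫ j ≫ eqToHom eL.symm) (v : zW ⟶ zW) (hv : 𝒳.p.map v = 𝟙 _) :
    ∃ (x : 𝒳.obj) (hx : 𝒳.p.obj x = P) (μ₁ μ₂ : zL ⟶ x), 𝒳.p.map μ₁ = eqToHom eL ≫ ι₁ ≫ eqToHom hx.symm ∧
      𝒳.p.map μ₂ = eqToHom eL ≫ ι₂ ≫ eqToHom hx.symm ∧ w ≫ μ₁ = v ≫ w ≫ μ₂ := by
  subst eL eW
  simp only [eqToHom_refl, Category.id_comp, Category.comp_id] at hπ₁ hπ₂ hw ⊢
  subst hw
  haveI := hD.mono₁
  haveI := hD.mono₂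
  exact exists_twist hS π ι₁ ι₂ ν w hπ₁ hπ₂ hD.sq hD.cover v hv

theorem exists_isTw (hS : Stk.IsStack (AlgSp.J S) 𝒳) (Q : Pair T) (v : Q.GW hS.1 η) :
    ∃ c, IsTw hS.1 η Q v c := by
  obtain ⟨x, hx, μ₁, μ₂, h₁, h₂, h12⟩ := exists_twist' hS Q.doubled (zObj hS.1 η Q.f).2
    (zObj hS.1 η (Q.j ≫ Q.f)).2 (Q.π ≫ eqToHom η.2.symm) (ζ hS.1 η Q.f) (kk hS.1 η Q.j rfl)
    (by rw [map_ζ, reassoc_of% Q.hπ₁]) (by rw [map_ζ, reassoc_of% Q.hπ₂]) (map_kk _ _ _ _) v.1 v.2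
  exact ⟨_, ⟨x, hx⟩, μ₁, μ₂, h₁, h₂, h12, rfl⟩

variable {h η}

theorem IsTw.pb₁ {Q : Pair T} {v : Q.GW h η} {c : IsoNat.IsoCl 𝒳 Q.P} (hc : IsTw h η Q v c) :
    pb h Q.ι₁ c = pb h Q.f (IsoNat.cls η) := by
  obtain ⟨x, μ₁, μ₂, h₁, -, -, rfl⟩ := hc
  exact (pb_cls h μ₁ (IsHomLift.of_fac' 𝒳.p _ _ (zObj h η Q.f).2 x.2 h₁)).trans (pb_η h η Q.f).symm

theorem IsTw.pb₂ {Q : Pair T} {v : Q.GW h η} {c : IsoNat.IsoCl 𝒳 Q.P} (hc : IsTw h η Q v c) :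
    pb h Q.ι₂ c = pb h Q.f (IsoNat.cls η) := by
  obtain ⟨x, μ₁, μ₂, -, h₂, -, rfl⟩ := hc
  exact (pb_cls h μ₂ (IsHomLift.of_fac' 𝒳.p _ _ (zObj h η Q.f).2 x.2 h₂)).trans (pb_η h η Q.f).symm

theorem exists_arrow_of_pb_eq (h : IsFibGrpd 𝒳.p) {T' T : Over S} {g : T' ⟶ T} {x : 𝒳.p.Fiber T}
    {x' : 𝒳.p.Fiber T'} (e : pb h g (IsoNat.cls x) = IsoNat.cls x') :
    ∃ a : x'.1 ⟶ x.1, 𝒳.p.map a = eqToHom x'.2 ≫ g ≫ eqToHom x.2.symm := by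
  obtain ⟨x₁, a, ha⟩ := exists_pb h g x
  rw [pb_cls h a ha] at e
  obtain ⟨a', ha'⟩ := exists_hom_of_cls (q' := x) a ha e rfl
  haveI := ha'
  exact ⟨a', IsHomLift.fac' 𝒳.p g a'⟩

theorem exists_isTw_of_pb {Q : Pair T} {c : IsoNat.IsoCl 𝒳 Q.P} (e₁ : pb h Q.ι₁ c = pb h Q.f (IsoNat.cls η))
    (e₂ : pb h Q.ι₂ c = pb h Q.f (IsoNat.cls η)) : ∃ v, IsTw h η Q v c := by
  induction c using Quotient.inductionOn with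
  | h x =>
    replace e₁ := e₁.trans (pb_η h η Q.f)
    replace e₂ := e₂.trans (pb_η h η Q.f)
    obtain ⟨μ₁, h₁⟩ := exists_arrow_of_pb_eq h (x := x) e₁
    obtain ⟨μ₂, h₂⟩ := exists_arrow_of_pb_eq h (x := x) e₂
    obtain ⟨v, ⟨hvm, hv⟩, -⟩ := fibGrpd_fac h (kk h η Q.j rfl ≫ μ₂) (kk h η Q.j rfl ≫ μ₁) (𝟙 _) (by
      rw [Category.id_comp, 𝒳.p.map_comp, 𝒳.p.map_comp, map_kk, h₁, h₂]
      simp [reassoc_of% Q.doubled.sq.w])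
    exact ⟨⟨v, hvm⟩, x, μ₁, μ₂, h₁, h₂, hv.symm, rfl⟩

/-- Classes of twists agree exactly when the twists differ by automorphisms of the charts. -/
theorem IsTw.eq_iff (hS : Stk.IsStack (AlgSp.J S) 𝒳) {η : 𝒳.p.Fiber T} {Q : Pair T} {v v' : Q.GW hS.1 η}
    {c c' : IsoNat.IsoCl 𝒳 Q.P} (hc : IsTw hS.1 η Q v c) (hc' : IsTw hS.1 η Q v' c') :
    c = c' ↔ ∃ a b : G hS.1 η Q.f, Q.res hS.1 η a * v' = v * Q.res hS.1 η b := by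
  have h := hS.1
  obtain ⟨x, μ₁, μ₂, h₁, h₂, h12, rfl⟩ := hc
  obtain ⟨x', μ₁', μ₂', h₁', h₂', h12', rfl⟩ := hc'
  constructor
  · intro e
    obtain ⟨ψ⟩ := Quotient.exact e
    haveI : 𝒳.p.IsHomLift (𝟙 Q.P) ψ.hom.1 := ψ.hom.2
    have hψ : 𝒳.p.map ψ.hom.1 = eqToHom (x.2.trans x'.2.symm) := by
      rw [IsHomLift.fac' 𝒳.p (𝟙 Q.P) ψ.hom.1]; simp
    obtain ⟨a, ham, ha⟩ := (fibGrpd_fac h μ₁' (μ₁ ≫ ψ.hom.1) (𝟙 _) (by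
      rw [Category.id_comp, 𝒳.p.map_comp, h₁, hψ, h₁']; simp)).exists
    obtain ⟨b, hbm, hb⟩ := (fibGrpd_fac h μ₂' (μ₂ ≫ ψ.hom.1) (𝟙 _) (by
      rw [Category.id_comp, 𝒳.p.map_comp, h₂, hψ, h₂']; simp)).exists
    refine ⟨⟨a, ham⟩, ⟨b, hbm⟩, Subtype.ext (fibGrpd_ext h (kk hS.1 η Q.j rfl ≫ μ₂') ?_ ?_)⟩
    · exact (Q.res hS.1 η ⟨a, ham⟩ * v').2.trans (v * Q.res hS.1 η ⟨b, hbm⟩).2.symm
    · simp only [G.mul_val, Category.assoc]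
      rw [← h12', reassoc_of% (res_comm hS.1 η Q.j rfl (⟨a, ham⟩ : G hS.1 η Q.f)), ha,
        reassoc_of% (res_comm hS.1 η Q.j rfl (⟨b, hbm⟩ : G hS.1 η Q.f)), hb, reassoc_of% h12]
  · rintro ⟨a, b, e⟩
    have e' := congrArg (fun t : Q.GW hS.1 η => t.1) e
    simp only [G.mul_val] at e'
    obtain ⟨χ, hχ, -, -⟩ := exists_of_charts hS Q.doubled x.2 x'.2 (zObj hS.1 η (Q.j ≫ Q.f)).2
      (z := fun _ => (zObj hS.1 η Q.f).1) (fun _ => (zObj hS.1 η Q.f).2)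
      (fun s => if s then μ₂ else μ₁) (fun s => if s then b.1 ≫ μ₂' else a.1 ≫ μ₁')
      (fun s => if s then v.1 ≫ kk hS.1 η Q.j rfl else kk hS.1 η Q.j rfl)
      (fun s => by cases s <;> simp [h₁, h₂]) (fun s => by cases s <;> simp [h₁', h₂', a.2, b.2])
      (fun s => by cases s <;> simp [map_kk, v.2])
      (by simpa using h12)
      (by
        simp only [Bool.false_eq_true, if_false, if_true, Category.assoc]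
        rw [← reassoc_of% (res_comm hS.1 η Q.j rfl a), h12', reassoc_of% e',
          reassoc_of% (res_comm hS.1 η Q.j rfl b)])
    exact cls_eq_of_map hS.1 χ hχ

theorem isTw_one {Q : Pair T} : IsTw h η Q 1 (pb h Q.π (IsoNat.cls η)) := by
  rw [pb_η]
  refine ⟨zObj h η Q.π, kk h η Q.ι₁ Q.hπ₁, kk h η Q.ι₂ Q.hπ₂, map_kk _ _ _ _, map_kk _ _ _ _, ?_, rfl⟩
  rw [G.one_val, Category.id_comp, kk_comp h η Q.j rfl Q.ι₁ Q.hπ₁ (k := Q.j ≫ Q.ι₁) rfl (by rw [Category.assoc, Q.hπ₁]),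
    kk_comp h η Q.j rfl Q.ι₂ Q.hπ₂ (k := Q.j ≫ Q.ι₁) Q.doubled.sq.w.symm (by rw [Category.assoc, Q.hπ₁])]

theorem IsTw.pullback {Q Q' : Pair T} {v : Q.GW h η} {c : IsoNat.IsoCl 𝒳 Q.P} (hc : IsTw h η Q v c)
    (g : Q'.L ⟶ Q.L) (hg : g ≫ Q.f = Q'.f) (gW : Q'.W ⟶ Q.W) (hgW : gW ≫ Q.j = Q'.j ≫ g) (q : Q'.P ⟶ Q.P)
    (hq₁ : Q'.ι₁ ≫ q = g ≫ Q.ι₁) (hq₂ : Q'.ι₂ ≫ q = g ≫ Q.ι₂) :
    IsTw h η Q' (AutIso.res h η gW (by rw [reassoc_of% hgW, hg]) v) (pb h q c) := by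
  obtain ⟨x, μ₁, μ₂, h₁, h₂, h12, rfl⟩ := hc
  obtain ⟨x', a, ha⟩ := exists_pb h q x
  rw [pb_cls h a ha]
  haveI := ha
  have ma : 𝒳.p.map a = eqToHom x'.2 ≫ q ≫ eqToHom x.2.symm := IsHomLift.fac' 𝒳.p q a
  obtain ⟨μ₁', h₁', e₁⟩ := (fibGrpd_fac h a (kk h η g hg ≫ μ₁)
    (eqToHom (zObj h η Q'.f).2 ≫ Q'.ι₁ ≫ eqToHom x'.2.symm) (by
      rw [ma, 𝒳.p.map_comp, map_kk, h₁]; simp [reassoc_of% hq₁])).exists
  obtain ⟨μ₂', h₂', e₂⟩ := (fibGrpd_fac h a (kk h η g hg ≫ μ₂)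
    (eqToHom (zObj h η Q'.f).2 ≫ Q'.ι₂ ≫ eqToHom x'.2.symm) (by
      rw [ma, 𝒳.p.map_comp, map_kk, h₂]; simp [reassoc_of% hq₂])).exists
  refine ⟨x', μ₁', μ₂', h₁', h₂', fibGrpd_ext h a ?_ ?_, rfl⟩
  · rw [𝒳.p.map_comp, 𝒳.p.map_comp, 𝒳.p.map_comp, map_kk, h₁', h₂', (AutIso.res h η gW _ v).2]
    simp [reassoc_of% Q'.doubled.sq.w]
  · have k₁ : kk h η Q'.j rfl ≫ kk h η g hg = kk h η gW (by rw [reassoc_of% hgW, hg]) ≫ kk h η Q.j rfl :=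
      (kk_comp h η Q'.j rfl g hg rfl (by rw [Category.assoc, hg])).trans
        (kk_comp h η gW _ Q.j rfl hgW _).symm
    simp only [Category.assoc, e₁, e₂]
    rw [reassoc_of% k₁, h12, ← reassoc_of% (res_comm h η gW _ v), reassoc_of% k₁]

end Groth.Agent.IsoNatLib.AutIso
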